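import Cfsg.Agent.DFourTorus.Frame
import Cfsg.Agent.Twisted.GraphSym

/-!
# The twist `g ↦` graph symmetry of the entrywise `q`-th power
-/

set_option autoImplicit false

namespace CfsgLib.DFourTorus

open Cfsg.Lie CfsgLib.Chevalley CfsgLib.ChevTorus
open scoped MatrixGroups

variable {K L : Type*} [Field K] [Field L]

/-- The graph symmetry on the roots. -/
def sig (r : Root chevD4) : Root chevD4 :=
  ⟨Twisted.graphD4.σf r, (Twisted.graphD4_ok.root r.2).1⟩

theorem sig_facts : sig (rt 18) = rt 13 ∧ sig (rt 13) = rt 12 ∧ sig (rt 12) = rt 18 ∧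
    sig (rt 14) = rt 14 ∧ sig (rt 5) = rt 10 ∧ sig (rt 10) = rt 11 ∧ sig (rt 11) = rt 5 ∧
    sig (rt 9) = rt 9 ∧ sig (rt 23) = rt 23 ∧ sig (rt 0) = rt 0 := by decide +kernel

theorem sgn_facts : ∀ n ∈ [18, 13, 12, 14, 5, 10, 11, 9, 23, 0],
    Twisted.graphD4.sgn n = 1 := by decide +kernel

/-- The twist. -/
def tw (f : L ≃+* L) : MulAut (GL I L) :=
  Units.mapEquiv (f.mapMatrix.toMulEquiv.trans (Twisted.graphD4_ok.conj L))

theorem tw_X (f : L ≃+* L) (r : Root chevD4) (t : L) :
    tw f (X good_chevD4 r t) =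
      X good_chevD4 (sig r) ((Twisted.graphD4.sgn r : L) * f t) := by
  apply Units.ext
  show Twisted.graphD4_ok.conj L ((xR chevD4 L r t).map f.toRingHom) = _
  rw [← x_eq_xR good_chevD4, Twisted.x_map, Twisted.graphD4_ok.conj_x L r.2, coe_X]
  exact x_eq_xR good_chevD4 L (sig r) _

theorem tw_X4 (f : L ≃+* L) (n m : ℕ) (hn : n < 24) (hm : m < 24)
    (h : n ∈ [18, 13, 12, 14, 5, 10, 11, 9, 23, 0]) (e : sig (rt n hn) = rt m hm) (t : L) :
    tw f (X4 n t hn) = X4 m (f t) hm := by
  rw [X4, tw_X, e, show Twisted.graphD4.sgn (rt n hn : Root chevD4) = 1 from sgn_facts n h,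
    Int.cast_one, one_mul]

/-- The twist moves the entries of a diagonal element along the graph symmetry. -/
theorem tw_torVal (f : L ≃+* L) {c c' : Fin chevD4.rank → Lˣ}
    (h : tw f (torC chevD4 c) = torC chevD4 c') (r : Root chevD4) :
    (torVal c' (Sum.inr (sig r)) : L) = f (torVal c (Sum.inr r) : L) := by
  have e := congrArg (fun g : GL I L => (g : Matrix I I L)
    (Twisted.graphD4_ok.idxEquiv (Sum.inr r)) (Twisted.graphD4_ok.idxEquiv (Sum.inr r))) h
  have e2 : ((torC chevD4 c' : GL I L) : Matrix I I L) (Sum.inr (sig r)) (Sum.inr (sig r)) =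
      (torVal c' (Sum.inr (sig r)) : L) := by
    rw [coe_torC, Matrix.diagonal_apply_eq]
  rw [← e2]
  refine e.symm.trans ?_
  show Twisted.graphD4_ok.conj L (((torC chevD4 c : GL I L) : Matrix I I L).map f.toRingHom) _ _ = _
  rw [Twisted.graphD4_ok.conj_apply, Twisted.graphD4_ok.idxSign_mul_self, one_mul,
    Matrix.map_apply, coe_torC, Matrix.diagonal_apply_eq]
  rfl

/-- Extension of scalars on the coordinates. -/
abbrev mapG (ι : K →+* L) : GL I K →* GL I L := Matrix.GeneralLinearGroup.map ι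

theorem mapG_X4 (ι : K →+* L) (n : ℕ) (hn : n < 24) (t : K) :
    mapG ι (X4 n t hn) = X4 n (ι t) hn := X_map _ ι _ t

theorem mapG_mem_group (ι : K →+* L) {q : ℕ} {g : GL I K} (hg : g ∈ twistedD4 K q) :
    mapG ι g ∈ chevD4.group L := by
  have h : twistedD4 K q ≤ (chevD4.group L).comap (mapG ι) := by
    refine (Subgroup.closure_le _).2 ?_
    rintro x ⟨w, -, hx⟩
    have e : x = wordGL good_chevD4 w := Units.ext (by rw [hx, coe_wordGL])
    rw [SetLike.mem_coe, Subgroup.mem_comap, e, wordGL, map_list_prod, List.map_map]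
    refine Subgroup.list_prod_mem _ fun y hy => ?_
    obtain ⟨p, -, rfl⟩ := List.mem_map.1 hy
    rw [Function.comp_apply]
    split
    · rw [X_map]; exact X_mem_group _ _ _
    · rw [map_one]; exact one_mem _
  exact h hg

theorem wordGL_three (a b c : ℕ) (ha : a < 24) (hb : b < 24) (hc : c < 24) (x y z : K) :
    wordGL good_chevD4 [(a, x), (b, y), (c, z)] = X4 a x ha * (X4 b y hb * X4 c z hc) := by
  rw [show [(a, x), (b, y), (c, z)] =
    [((rt a ha : ℕ), x), ((rt b hb : ℕ), y), ((rt c hc : ℕ), z)] from rfl, wordGL_cons, wordGL_cons,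
    wordGL_cons]
  simp [wordGL]

/-- A rotated product of three. -/
theorem rotate3 {G : Type*} [Monoid G] {A B C : G} (h1 : Commute A B) (h2 : Commute A C) :
    B * (C * A) = A * (B * C) := by
  rw [← h2.eq, ← mul_assoc, ← h1.eq, mul_assoc]

/-- The twisted group is fixed by the twist. -/
theorem tw_mapG (ι : K →+* L) {q : ℕ} (f : L ≃+* L) (hf : ∀ x, f x = x ^ q)
    (h3 : ∀ t : K, t ^ q ^ 3 = t) {g : GL I K} (hg : g ∈ twistedD4 K q) :
    tw f (mapG ι g) = mapG ι g := by
  have h : twistedD4 K q ≤ ((tw f).toMonoidHom.comp (mapG ι)).eqLocus (mapG ι) := by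
    refine (Subgroup.closure_le _).2 ?_
    rintro x ⟨w, hw, hx⟩
    have e : x = wordGL good_chevD4 w := Units.ext (by rw [hx, coe_wordGL])
    show tw f (mapG ι x) = mapG ι x
    rw [e]
    rcases hw with ⟨t, ht, r, hr, rfl⟩ | ⟨t, rs, hrs, rfl⟩
    · simp only [d4p2, d4m2, List.mem_cons, List.not_mem_nil, or_false] at hr
      rcases hr with rfl | rfl
      · rw [show [(14, t)] = [((rt 14 : ℕ), t)] from rfl, wordGL_cons, show wordGL good_chevD4
          ([] : List (ℕ × K)) = 1 from rfl, mul_one]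
        show tw f (mapG ι (X4 14 t)) = mapG ι (X4 14 t)
        rw [mapG_X4, tw_X4 f 14 14 _ _ (by simp) sig_facts.2.2.2.1, hf, ← map_pow, ht]
      · rw [show [(9, t)] = [((rt 9 : ℕ), t)] from rfl, wordGL_cons, show wordGL good_chevD4
          ([] : List (ℕ × K)) = 1 from rfl, mul_one]
        show tw f (mapG ι (X4 9 t)) = mapG ι (X4 9 t)
        rw [mapG_X4, tw_X4 f 9 9 _ _ (by simp) sig_facts.2.2.2.2.2.2.2.1, hf, ← map_pow, ht]
    · simp only [d4p1, d4p3, d4p4, d4m1, d4m3, d4m4, List.mem_cons, List.not_mem_nil, or_false]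
        at hrs
      have e3 : ((t ^ q ^ 2) ^ q : K) = t := by rw [← pow_mul, ← pow_succ, h3]
      have e2 : ((t ^ q) ^ q : K) = t ^ q ^ 2 := by rw [← pow_mul, sq]
      rcases hrs with rfl | rfl
      · rw [wordGL_three 18 13 12 (by decide) (by decide) (by decide)]
        simp only [map_mul, mapG_X4]
        rw [tw_X4 f 18 13 _ (by decide) (by simp) sig_facts.1,
          tw_X4 f 13 12 _ (by decide) (by simp) sig_facts.2.1,
          tw_X4 f 12 18 _ (by decide) (by simp) sig_facts.2.2.1]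
        simp only [hf, ← map_pow, e2, e3]
        exact rotate3 (commute_X4 18 13 (by decide) (by decide) (by decide) _ _)
          (commute_X4 18 12 (by decide) (by decide) (by decide) _ _)
      · rw [wordGL_three 5 10 11 (by decide) (by decide) (by decide)]
        simp only [map_mul, mapG_X4]
        rw [tw_X4 f 5 10 _ (by decide) (by simp) sig_facts.2.2.2.2.1,
          tw_X4 f 10 11 _ (by decide) (by simp) sig_facts.2.2.2.2.2.1,
          tw_X4 f 11 5 _ (by decide) (by simp) sig_facts.2.2.2.2.2.2.1]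
        simp only [hf, ← map_pow, e2, e3]
        exact rotate3 (commute_X4 5 10 (by decide) (by decide) (by decide) _ _)
          (commute_X4 5 11 (by decide) (by decide) (by decide) _ _)
  exact h hg

end CfsgLib.DFourTorus
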