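import Cfsg.Agent.DFourTorus.Good
import Cfsg.Agent.ChevTorus.Scaling
import Cfsg.Prelude.Def_LieTwisted

/-!
# Elements of `³D₄(q)`: the root elements of the highest root and the torus of the outer nodes
-/

set_option autoImplicit false

namespace CfsgLib.DFourTorus

open Cfsg.Lie CfsgLib.Chevalley CfsgLib.ChevTorus
open scoped MatrixGroups

variable {K : Type*} [Field K]

/-- A root by index. -/
def rt (n : ℕ) (h : n < 24 := by decide) : Root chevD4 := ⟨n, h⟩

/-- The coordinates. -/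
abbrev I : Type := chevD4.Idx

/-- A root element. -/
abbrev X4 (n : ℕ) (t : K) (h : n < 24 := by decide) : GL I K := X good_chevD4 (rt n h) t

/-- A torus element of a root. -/
abbrev H4 (n : ℕ) (u : Kˣ) (h : n < 24 := by decide) : GL I K := hT K (rt n h) u

/-- The highest root is the reflection of the others. -/
theorem wPerm_facts :
    wPerm goodW (0 : Fin 4) (rt 14) = rt 19 ∧ wPerm goodW (2 : Fin 4) (rt 19) = rt 21 ∧
    wPerm goodW (3 : Fin 4) (rt 21) = rt 22 ∧ wPerm goodW (1 : Fin 4) (rt 22) = rt 23 ∧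
    wPerm goodW (0 : Fin 4) (rt 9) = rt 4 ∧ wPerm goodW (2 : Fin 4) (rt 4) = rt 2 ∧
    wPerm goodW (3 : Fin 4) (rt 2) = rt 1 ∧ wPerm goodW (1 : Fin 4) (rt 1) = rt 0 := by
  simp only [Fin.ext_iff, goodW.wPerm_val]
  decide +kernel

theorem rev_facts : (rt 23).rev = rt 0 ∧ (rt 18).rev = rt 5 ∧ (rt 14).rev = rt 9 ∧
    (rt 13).rev = rt 10 ∧ (rt 12).rev = rt 11 := by decide +kernel

theorem pRoot_facts : pRoot goodW (0 : Fin 4) = rt 18 ∧ pRoot goodW (1 : Fin 4) = rt 14 ∧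
    pRoot goodW (2 : Fin 4) = rt 13 ∧ pRoot goodW (3 : Fin 4) = rt 12 := by
  simp only [Fin.ext_iff]
  decide +kernel

/-- The value of a torus element of a root on a root. -/
theorem hT_conj_X {D : ChevalleyDatum} (hW : GoodWeyl D) (r s : Root D) (u : Kˣ) (t : K) :
    hT K r u * X hW.good s t * (hT K r u)⁻¹ =
      X hW.good s (((u ^ D.pairing r s : Kˣ) : K) * t) := by
  have h : tor (fun v : Root D => u ^ D.pairing r v) =
      (tor fun v : Root D => torVal (fun k => u ^ (D.coroot.getD r #[]).getD k 0) (Sum.inr v) :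
        GL D.Idx K) := (hT_eq_torC r u).trans rfl
  rw [hT_eq_torC, torC_conj_X hW.good]
  rw [← congrFun (tor_injective h) s]

/-- Root elements of orthogonal roots commute. -/
theorem commute_X {D : ChevalleyDatum} (hW : GoodWeyl D) {a b : Root D} (hne : b ≠ a)
    (h1 : a ≠ b.rev) (h2 : D.commTerms a b = []) (s u : K) :
    Commute (X hW.good a s) (X hW.good b u) := by
  have := X_comm hW.toGoodComm a b hne (fun e => h1 (by rw [e, Fin.rev_rev])) s u
  rw [commRhs, h2] at this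
  simpa [wordGL, Commute, SemiconjBy] using this.symm

/-- The pairs of roots of different outer nodes, and those with the highest root. -/
theorem orth_facts : ∀ p ∈ [(18, 13), (18, 12), (13, 12), (18, 10), (18, 11), (13, 11), (5, 13),
    (5, 12), (10, 12), (5, 10), (5, 11), (10, 11), (18, 23), (13, 23), (12, 23), (18, 0), (13, 0),
    (12, 0)], ∀ (h : p.1 < 24) (h' : p.2 < 24), rt p.2 h' ≠ rt p.1 h ∧
      rt p.1 h ≠ (rt p.2 h').rev ∧ chevD4.commTerms p.1 p.2 = [] := by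
  decide +kernel

theorem commute_X4 (a b : ℕ) (ha : a < 24) (hb : b < 24)
    (hab : (a, b) ∈ [(18, 13), (18, 12), (13, 12), (18, 10), (18, 11), (13, 11), (5, 13),
    (5, 12), (10, 12), (5, 10), (5, 11), (10, 11), (18, 23), (13, 23), (12, 23), (18, 0), (13, 0),
    (12, 0)]) (s u : K) : Commute (X4 a s ha) (X4 b u hb) := by
  obtain ⟨h1, h2, h3⟩ := orth_facts _ hab ha hb
  exact commute_X goodW h1 h2 h3 s u

/-- Three commuting factors. -/
theorem interleave3 {G : Type*} [Monoid G] {a₁ a₂ a₃ b₁ b₂ b₃ : G} (h12 : Commute a₂ b₁)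
    (h13 : Commute a₃ b₁) (h23 : Commute a₃ b₂) :
    a₁ * a₂ * a₃ * (b₁ * b₂ * b₃) = a₁ * b₁ * (a₂ * b₂) * (a₃ * b₃) := by
  calc a₁ * a₂ * a₃ * (b₁ * b₂ * b₃) = a₁ * a₂ * (a₃ * b₁) * (b₂ * b₃) := by simp only [mul_assoc]
    _ = a₁ * (a₂ * b₁) * (a₃ * b₂) * b₃ := by rw [h13.eq]; simp only [mul_assoc]
    _ = a₁ * b₁ * (a₂ * b₂) * (a₃ * b₃) := by rw [h12.eq, h23.eq]; simp only [mul_assoc]

/-- A field homomorphism on the units. -/
def fU (f : K →+* K) : Kˣ →* Kˣ := Units.map (f : K →* K)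

@[simp] theorem coe_fU (f : K →+* K) (u : Kˣ) : ((fU f u : Kˣ) : K) = f u := rfl

/-- The triple of the outer nodes. -/
def trip (f : K →+* K) (t : K) : GL I K := X4 18 t * X4 13 (f t) * X4 12 (f (f t))

/-- The triple of the negatives of the outer nodes. -/
def trip' (f : K →+* K) (t : K) : GL I K := X4 5 t * X4 10 (f t) * X4 11 (f (f t))

/-- The element `n_r(u)`. -/
abbrev nE (n : ℕ) (u : Kˣ) (h : n < 24 := by decide) : GL I K := nElt good_chevD4 (rt n h) u

theorem nTriple_eq (f : K →+* K) (u : Kˣ) :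
    trip f u * trip' f (-(u⁻¹ : Kˣ)) * trip f u =
      nE 18 u * nE 13 (fU f u) * nE 12 (fU f (fU f u)) := by
  have e := interleave3 (a₁ := X4 18 (u : K)) (a₂ := X4 13 (f (u : K))) (a₃ := X4 12 (f (f (u : K))))
    (b₁ := X4 5 (-((u⁻¹ : Kˣ) : K))) (b₂ := X4 10 (f (-((u⁻¹ : Kˣ) : K))))
    (b₃ := X4 11 (f (f (-((u⁻¹ : Kˣ) : K)))))
    (commute_X4 5 13 (by decide) (by decide) (by decide) _ _).symm
    (commute_X4 5 12 (by decide) (by decide) (by decide) _ _).symm
    (commute_X4 10 12 (by decide) (by decide) (by decide) _ _).symm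
  rw [trip, trip', e, interleave3]
  · simp only [nE, nElt, rev_facts.2.1, rev_facts.2.2.2.1, rev_facts.2.2.2.2, coe_fU, ← map_inv,
      map_neg]
  · exact ((commute_X4 18 13 (by decide) (by decide) (by decide) _ _).symm).mul_left
      (commute_X4 18 10 (by decide) (by decide) (by decide) _ _).symm
  · exact ((commute_X4 18 12 (by decide) (by decide) (by decide) _ _).symm).mul_left
      (commute_X4 18 11 (by decide) (by decide) (by decide) _ _).symm
  · exact ((commute_X4 13 12 (by decide) (by decide) (by decide) _ _).symm).mul_left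
      (commute_X4 13 11 (by decide) (by decide) (by decide) _ _).symm

variable {q : ℕ} {f : K →+* K}

theorem mem_of_word {w : List (ℕ × K)} (hw : w ∈ d4Words K q) :
    wordGL good_chevD4 w ∈ twistedD4 K q :=
  Subgroup.subset_closure ⟨w, hw, coe_wordGL _ _⟩

theorem X14_mem {t : K} (ht : t ^ q = t) : X4 14 t ∈ twistedD4 K q := by
  have := mem_of_word (Or.inl ⟨t, ht, 14, by simp [d4p2, d4m2], rfl⟩ :
    [(14, t)] ∈ d4Words K q)
  rw [show [(14, t)] = [((rt 14 : ℕ), t)] from rfl, wordGL_cons] at this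
  simpa [wordGL] using this

theorem X9_mem {t : K} (ht : t ^ q = t) : X4 9 t ∈ twistedD4 K q := by
  have := mem_of_word (Or.inl ⟨t, ht, 9, by simp [d4p2, d4m2], rfl⟩ :
    [(9, t)] ∈ d4Words K q)
  rw [show [(9, t)] = [((rt 9 : ℕ), t)] from rfl, wordGL_cons] at this
  simpa [wordGL] using this

theorem trip_mem (hf : ∀ x, f x = x ^ q) (t : K) : trip f t ∈ twistedD4 K q := by
  have := mem_of_word (Or.inr ⟨t, (18, 13, 12), by simp [d4p1, d4p3, d4p4], rfl⟩ :
    [(18, t), (13, t ^ q), (12, t ^ q ^ 2)] ∈ d4Words K q)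
  rw [show t ^ q ^ 2 = f (f t) by rw [hf, hf, ← pow_mul, sq], ← hf] at this
  rw [show [(18, t), (13, f t), (12, f (f t))] =
    [((rt 18 : ℕ), t), ((rt 13 : ℕ), f t), ((rt 12 : ℕ), f (f t))] from rfl, wordGL_cons,
    wordGL_cons, wordGL_cons] at this
  simpa [wordGL, trip, mul_assoc] using this

theorem trip'_mem (hf : ∀ x, f x = x ^ q) (t : K) : trip' f t ∈ twistedD4 K q := by
  have := mem_of_word (Or.inr ⟨t, (5, 10, 11), by simp [d4m1, d4m3, d4m4], rfl⟩ :
    [(5, t), (10, t ^ q), (11, t ^ q ^ 2)] ∈ d4Words K q)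
  rw [show t ^ q ^ 2 = f (f t) by rw [hf, hf, ← pow_mul, sq], ← hf] at this
  rw [show [(5, t), (10, f t), (11, f (f t))] =
    [((rt 5 : ℕ), t), ((rt 10 : ℕ), f t), ((rt 11 : ℕ), f (f t))] from rfl, wordGL_cons,
    wordGL_cons, wordGL_cons] at this
  simpa [wordGL, trip', mul_assoc] using this

theorem nTriple_mem (hf : ∀ x, f x = x ^ q) (u : Kˣ) :
    nE 18 u * nE 13 (fU f u) * nE 12 (fU f (fU f u)) ∈ twistedD4 K q := by
  rw [← nTriple_eq]
  exact mul_mem (mul_mem (trip_mem hf _) (trip'_mem hf _)) (trip_mem hf _)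

theorem nE14_mem (hf : ∀ x, f x = x ^ q) {u : Kˣ} (hu : f u = u) :
    nE 14 u ∈ twistedD4 K q := by
  have h1 : (u : K) ^ q = u := by rw [← hf, hu]
  have h2 : (-((u⁻¹ : Kˣ) : K)) ^ q = -((u⁻¹ : Kˣ) : K) := by
    rw [← hf, map_neg, Units.val_inv_eq_inv_val, map_inv₀, hu]
  rw [nE, nElt, rev_facts.2.2.1]
  exact mul_mem (mul_mem (X14_mem h1) (X9_mem h2)) (X14_mem h1)

theorem H14_mem (hf : ∀ x, f x = x ^ q) {u : Kˣ} (hu : f u = u) :
    H4 14 u ∈ twistedD4 K q := by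
  rw [H4, ← hElt_eq goodW]
  exact mul_mem (nE14_mem hf hu) (nE14_mem hf (by simp))

/-- The split torus of the outer nodes. -/
def hSplit (f : K →+* K) (u : Kˣ) : GL I K :=
  H4 18 u * H4 13 (fU f u) * H4 12 (fU f (fU f u))

theorem commute_nE (a a' b b' : ℕ) (ha : a < 24) (ha' : a' < 24) (hb : b < 24) (hb' : b' < 24)
    (ea : (rt a ha).rev = rt a' ha') (eb : (rt b hb).rev = rt b' hb')
    (h : ∀ p ∈ [(a, b), (a, b'), (a', b), (a', b')], p ∈ [(18, 13), (18, 12), (13, 12), (18, 10),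
      (18, 11), (13, 11), (5, 13), (5, 12), (10, 12), (5, 10), (5, 11), (10, 11), (18, 23), (13, 23),
      (12, 23), (18, 0), (13, 0), (12, 0)]) (u v : Kˣ) : Commute (nE a u ha) (nE b v hb) := by
  simp only [nE, nElt, ea, eb]
  refine Commute.mul_left (Commute.mul_left ?_ ?_) ?_
  all_goals refine Commute.mul_right (Commute.mul_right ?_ ?_) ?_
  all_goals exact commute_X4 _ _ _ _ (h _ (by simp)) _ _

theorem hSplit_mem (hf : ∀ x, f x = x ^ q) (u : Kˣ) : hSplit f u ∈ twistedD4 K q := by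
  have hm : fU f (-1 : Kˣ) = -1 := Units.ext (by simp)
  have h1 := mul_mem (nTriple_mem hf u) (nTriple_mem hf (-1))
  rw [hm, hm] at h1
  simp only [hSplit, H4, ← hElt_eq goodW]
  rwa [interleave3] at h1
  · exact (commute_nE 18 5 13 10 (by decide) (by decide) (by decide) (by decide)
      rev_facts.2.1 rev_facts.2.2.2.1 (by decide) _ _).symm
  · exact (commute_nE 18 5 12 11 (by decide) (by decide) (by decide) (by decide)
      rev_facts.2.1 rev_facts.2.2.2.2 (by decide) _ _).symm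
  · exact (commute_nE 13 10 12 11 (by decide) (by decide) (by decide) (by decide)
      rev_facts.2.2.2.1 rev_facts.2.2.2.2 (by decide) _ _).symm

/-- Conjugates of long root elements by monomial elements. -/
theorem conj_step {g : GL I K} {n m : ℕ} {hn : n < 24} {hm : m < 24} {e : ℤ}
    (h : ∀ t : K, g * X4 n t hn * g⁻¹ = X4 m ((e : K) * t) hm) (he : e * e = 1) (i : Fin 4)
    {m' : ℕ} {hm' : m' < 24} (hi : wPerm goodW i (rt m hm) = rt m' hm') :
    ∃ e' : ℤ, e' * e' = 1 ∧ ∀ t : K, (nR goodW i * g) * X4 n t hn * (nR goodW i * g)⁻¹ =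
      X4 m' ((e' : K) * t) hm' := by
  refine ⟨eta chevD4 i (rt m hm) * e, ?_, fun t => ?_⟩
  · rw [mul_mul_mul_comm, he, mul_one]
    exact goodW.eta_sq i (rt m hm)
  · rw [show nR goodW i * g * X4 n t hn * (nR goodW i * g)⁻¹ =
      nR goodW i * (g * X4 n t hn * g⁻¹) * (nR goodW i)⁻¹ by group, h]
    refine (nR_conj goodW i (rt m hm) _).trans ?_
    rw [hi, Int.cast_mul, mul_assoc]

theorem nR_mem (hf : ∀ x, f x = x ^ q) :
    (nR goodW (1 : Fin 4) : GL I K) * (nR goodW (3 : Fin 4) *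
      (nR goodW (2 : Fin 4) * nR goodW (0 : Fin 4))) ∈ twistedD4 K q := by
  obtain ⟨p0, p1, p2, p3⟩ := pRoot_facts
  have c1 := commute_nE (K := K) 18 5 13 10 (by decide) (by decide) (by decide) (by decide)
    rev_facts.2.1 rev_facts.2.2.2.1 (by decide) 1 1
  have c2 := commute_nE (K := K) 18 5 12 11 (by decide) (by decide) (by decide) (by decide)
    rev_facts.2.1 rev_facts.2.2.2.2 (by decide) 1 1
  have c3 := commute_nE (K := K) 13 10 12 11 (by decide) (by decide) (by decide) (by decide)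
    rev_facts.2.2.2.1 rev_facts.2.2.2.2 (by decide) 1 1
  have h0 : fU f (1 : Kˣ) = 1 := map_one _
  have h1 := nTriple_mem hf (1 : Kˣ)
  rw [h0, h0] at h1
  have e0 : (nE 18 1 : GL I K) = nR goodW (0 : Fin 4) :=
    (congrArg (fun r => nElt good_chevD4 r (1 : Kˣ)) p0.symm).trans (nElt_one goodW _)
  have e1 : (nE 14 1 : GL I K) = nR goodW (1 : Fin 4) :=
    (congrArg (fun r => nElt good_chevD4 r (1 : Kˣ)) p1.symm).trans (nElt_one goodW _)
  have e2 : (nE 13 1 : GL I K) = nR goodW (2 : Fin 4) :=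
    (congrArg (fun r => nElt good_chevD4 r (1 : Kˣ)) p2.symm).trans (nElt_one goodW _)
  have e3 : (nE 12 1 : GL I K) = nR goodW (3 : Fin 4) :=
    (congrArg (fun r => nElt good_chevD4 r (1 : Kˣ)) p3.symm).trans (nElt_one goodW _)
  refine mul_mem (e1 ▸ nE14_mem hf (by simp)) ?_
  rw [← e0, ← e2, ← e3]
  rw [← mul_assoc, ← c3.eq, mul_assoc, ← c2.eq, ← mul_assoc, ← c1.eq]
  exact h1

/-- The root elements of the highest root and its negative over the fixed field. -/
theorem X23_X0_mem (hf : ∀ x, f x = x ^ q) :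
    (∀ t : K, f t = t → X4 23 t ∈ twistedD4 K q) ∧ ∀ t : K, f t = t → X4 0 t ∈ twistedD4 K q := by
  obtain ⟨a1, a2, a3, a4, b1, b2, b3, b4⟩ := wPerm_facts
  have hg := nR_mem (K := K) hf
  have key : ∀ (n m₁ m₂ m₃ m₄ : ℕ) (hn : n < 24) (h1 : m₁ < 24) (h2 : m₂ < 24) (h3 : m₃ < 24)
      (h4 : m₄ < 24), wPerm goodW (0 : Fin 4) (rt n hn) = rt m₁ h1 →
      wPerm goodW (2 : Fin 4) (rt m₁ h1) = rt m₂ h2 →
      wPerm goodW (3 : Fin 4) (rt m₂ h2) = rt m₃ h3 →
      wPerm goodW (1 : Fin 4) (rt m₃ h3) = rt m₄ h4 →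
      (∀ t : K, t ^ q = t → X4 n t hn ∈ twistedD4 K q) →
      ∀ t : K, f t = t → X4 m₄ t h4 ∈ twistedD4 K q := by
    intro n m₁ m₂ m₃ m₄ hn h1 h2 h3 h4 w1 w2 w3 w4 hmem t ht
    have e0 : ∀ t : K, (1 : GL I K) * X4 n t hn * 1⁻¹ = X4 n (((1 : ℤ) : K) * t) hn := fun t => by
      simp
    obtain ⟨e₁, s1, k1⟩ := conj_step e0 (by norm_num) 0 w1
    obtain ⟨e₂, s2, k2⟩ := conj_step k1 s1 2 w2
    obtain ⟨e₃, s3, k3⟩ := conj_step k2 s2 3 w3
    obtain ⟨e₄, s4, k4⟩ := conj_step k3 s3 1 w4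
    have hfix : ((e₄ : K) * t) ^ q = (e₄ : K) * t := by rw [← hf, map_mul, map_intCast, ht]
    have := k4 ((e₄ : K) * t)
    rw [show (e₄ : K) * ((e₄ : K) * t) = t by
      rw [← mul_assoc, ← Int.cast_mul, s4, Int.cast_one, one_mul]] at this
    rw [← this]
    simp only [mul_one]
    exact mul_mem (mul_mem hg (hmem _ hfix)) (inv_mem hg)
  exact ⟨key 14 19 21 22 23 _ _ _ _ _ a1 a2 a3 a4 fun t => X14_mem,
    key 9 4 2 1 0 _ _ _ _ _ b1 b2 b3 b4 fun t => X9_mem⟩

/-- The generator of the torus. -/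
def gen (f : K →+* K) (a : Kˣ) (s : K) (c : Kˣ) : GL I K :=
  H4 14 a * (X4 23 (s / a) * X4 23 (-1) * X4 0 1 * X4 23 (-1)) * hSplit f c

theorem gen_mem (hf : ∀ x, f x = x ^ q) {a : Kˣ} {s : K} (c : Kˣ) (ha : f a = a) (hs : f s = s) :
    gen f a s c ∈ twistedD4 K q := by
  obtain ⟨h23, h0⟩ := X23_X0_mem hf
  refine mul_mem (mul_mem (H14_mem hf ha) (mul_mem (mul_mem (mul_mem (h23 _ ?_) (h23 _ ?_))
    (h0 _ ?_)) (h23 _ ?_))) (hSplit_mem hf c)
  all_goals simp [map_div₀, hs, ha]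

end CfsgLib.DFourTorus
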