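import Cfsg.Agent.DFourTorus.Torus
import Mathlib.Tactic.Module

/-!
# The root values of the generator
-/

set_option autoImplicit false

namespace CfsgLib.DFourTorus

open Cfsg.Lie CfsgLib.Chevalley CfsgLib.ChevTorus

variable {L : Type*} [Field L]

/-- The numbers behind the generator. -/
structure Params (f : L →+* L) (q : ℕ) (g l c : Lˣ) : Prop where
  two_le : 2 ≤ q
  hf : ∀ x, f x = x ^ q
  order_g : orderOf g = q ^ 3 - 1
  order_l : orderOf l = q ^ 2 - 1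
  norm_l : l * l ^ q = g ^ (q ^ 2 + q + 1)
  hc : c ^ 2 = l * l ^ q * g
  mem_c : c ∈ Subgroup.zpowers g

theorem value_identity {A : Type*} [AddCommGroup A] (a c g m : A) (q : ℤ) (h : q • a = a)
    (hg : (2 : ℤ) • c = a + g) (n₁ n₂ n₃ n₄ : ℤ) :
    (2 * n₂ - n₁ - n₃ - n₄) • a + n₂ • (-m) +
        ((2 * n₁ - n₂) • c + (2 * n₃ - n₂) • (q • c) + (2 * n₄ - n₂) • (q • (q • c))) =
      (n₁ + n₃ * q + n₄ * q ^ 2) • g + n₂ • ((2 : ℤ) • a - (1 + q + q ^ 2) • c - m) := by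
  obtain rfl : g = (2 : ℤ) • c - a := by rw [hg, add_sub_cancel_left]
  linear_combination (norm := module) (n₃ + n₄ * (q + 1)) • h

namespace Params

variable {f : L →+* L} {q : ℕ} {g l c : Lˣ} (h : Params f q g l c)
include h

theorem g_fix : g ^ q ^ 3 = g := by
  have h1 : 1 ≤ q ^ 3 := Nat.one_le_pow _ _ (by have := h.two_le; omega)
  conv_lhs => rw [← Nat.sub_add_cancel h1, pow_succ, ← h.order_g, pow_orderOf_eq_one, one_mul]

theorem c_fix : c ^ q ^ 3 = c := by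
  obtain ⟨i, rfl⟩ := h.mem_c
  simp only
  rw [← zpow_natCast, ← zpow_mul, mul_comm, zpow_mul, zpow_natCast, h.g_fix]

theorem l_fix : l ^ q ^ 2 = l := by
  have h1 : 1 ≤ q ^ 2 := Nat.one_le_pow _ _ (by have := h.two_le; omega)
  conv_lhs => rw [← Nat.sub_add_cancel h1, pow_succ, ← h.order_l, pow_orderOf_eq_one, one_mul]

theorem a_fix : (l * l ^ q) ^ q = l * l ^ q := by
  rw [mul_pow, ← pow_mul, ← sq, h.l_fix, mul_comm]

theorem l_ne : l ≠ l ^ q := by
  intro e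
  have h1 : l ^ (q - 1) = 1 := by
    have : l ^ (q - 1) * l = l := by
      rw [← pow_succ, Nat.sub_add_cancel (by have := h.two_le; omega), ← e]
    exact mul_eq_right.1 this
  have h2 := Nat.le_of_dvd (by have := h.two_le; omega) (h.order_l ▸ orderOf_dvd_of_pow_eq_one h1)
  have := h.two_le
  have : 2 * q ≤ q ^ 2 := by nlinarith
  omega

theorem g_q_ne : g ^ q ≠ g := by
  intro e
  have h1 : g ^ (q - 1) = 1 := by
    have : g ^ (q - 1) * g = g := by
      rw [← pow_succ, Nat.sub_add_cancel (by have := h.two_le; omega), e]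
    exact mul_eq_right.1 this
  have h2 := Nat.le_of_dvd (by have := h.two_le; omega) (h.order_g ▸ orderOf_dvd_of_pow_eq_one h1)
  have := h.two_le
  have : 2 * q ≤ q ^ 3 := by nlinarith [Nat.mul_le_mul this this]
  omega

end Params

/-- The element whose powers carry the central coefficient. -/
def kappa (q : ℕ) (l c : Lˣ) : Lˣ :=
  (l * l ^ q) ^ 2 * (c ^ (1 + q + q ^ 2))⁻¹ * (l ^ q)⁻¹

namespace Params

variable {f : L →+* L} {q : ℕ} {g l c : Lˣ} (h : Params f q g l c)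
include h

theorem val_eq (r : Root chevD4) :
    torVal (gvec f (l * l ^ q) (l ^ q) c) (Sum.inr r) =
      g ^ (coef r 0 + coef r 2 * q + coef r 3 * (q : ℤ) ^ 2) * kappa q l c ^ coef r 1 := by
  have hfc : fU f c = c ^ q := Units.ext (h.hf _)
  have hfc2 : fU f (fU f c) = (c ^ q) ^ q :=
    Units.ext (by rw [coe_fU, hfc, h.hf]; simp)
  rw [torVal_gvec, hfc2, hfc]
  have := value_identity (Additive.ofMul (l * l ^ q)) (Additive.ofMul c) (Additive.ofMul g)
    (Additive.ofMul (l ^ q)) (q : ℤ) (by rw [← ofMul_zpow, zpow_natCast, h.a_fix])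
    (by rw [← ofMul_zpow, zpow_ofNat, h.hc, ofMul_mul]) (coef r 0) (coef r 1) (coef r 2) (coef r 3)
  simp only [← ofMul_zpow, ← ofMul_inv, ← ofMul_mul, ← ofMul_div, Equiv.apply_eq_iff_eq] at this
  rw [kappa]
  simp only [zpow_natCast, zpow_ofNat, div_eq_mul_inv] at this
  rw [this]
  rw [show ((1 : ℤ) + q + q ^ 2) = ((1 + q + q ^ 2 : ℕ) : ℤ) by push_cast; ring, zpow_natCast]

theorem kappa_frob : kappa q l c ^ q = (l * l ^ q) ^ 2 * (c ^ (1 + q + q ^ 2))⁻¹ * l⁻¹ := by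
  have e : (c ^ (1 + q + q ^ 2)) ^ q = c ^ (1 + q + q ^ 2) := by
    rw [← pow_mul, show (1 + q + q ^ 2) * q = q + q ^ 2 + q ^ 3 by ring, pow_add, h.c_fix,
      ← pow_succ]
    congr 1
    ring
  rw [kappa, mul_pow, mul_pow, inv_pow, inv_pow, e, ← pow_mul, mul_comm 2 q, pow_mul, h.a_fix,
    ← pow_mul, ← sq, h.l_fix]

theorem kappa_cube : kappa q l c ^ q ^ 3 = kappa q l c ^ q := by
  have h1 : (kappa q l c ^ q) ^ q = kappa q l c := by
    rw [h.kappa_frob, mul_pow, mul_pow, inv_pow, inv_pow, kappa]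
    congr 1
    congr 1
    · rw [← pow_mul, mul_comm 2 q, pow_mul, h.a_fix]
    · congr 1
      rw [← pow_mul, show (1 + q + q ^ 2) * q = q + q ^ 2 + q ^ 3 by ring, pow_add, h.c_fix,
        ← pow_succ]
      congr 1
      ring
  rw [show q ^ 3 = q * q * q by ring, pow_mul, pow_mul, h1]

/-- No small power of `kappa` lies in the field of `q³` elements. -/
theorem kappa_zpow_notMem {d : ℤ} (hd0 : d ≠ 0) (hd : d.natAbs ≤ 2) {x : Lˣ} (hx : x ^ q ^ 3 = x)
    (e : kappa q l c ^ d = x) : False := by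
  have key : ∀ n : ℕ, 0 < n → n ≤ 2 → (kappa q l c ^ n) ^ q ^ 3 ≠ kappa q l c ^ n := by
    intro n hn0 hn e
    rw [← pow_mul, mul_comm, pow_mul, h.kappa_cube, h.kappa_frob, kappa] at e
    simp only [mul_pow, inv_pow] at e
    have h1 : l ^ n = (l ^ q) ^ n := inv_injective (mul_left_cancel e)
    have h2 : l ^ (n * (q - 1)) = 1 := by
      have : l ^ (n * (q - 1)) * l ^ n = l ^ n := by
        rw [← pow_add]
        conv_rhs => rw [h1, ← pow_mul]
        congr 1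
        have := h.two_le
        obtain ⟨m, rfl⟩ : ∃ m, q = m + 1 := ⟨q - 1, by omega⟩
        simp only [Nat.add_sub_cancel]
        ring
      exact mul_eq_right.1 this
    have h3 := Nat.le_of_dvd (Nat.mul_pos hn0 (by have := h.two_le; omega))
      (h.order_l ▸ orderOf_dvd_of_pow_eq_one h2)
    have := h.two_le
    obtain ⟨m, rfl⟩ : ∃ m, q = m + 1 := ⟨q - 1, by omega⟩
    have h4 : (m + 1) ^ 2 = m * (m + 2) + 1 := by ring
    simp only [Nat.add_sub_cancel] at h3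
    have : n * m ≤ 2 * m := Nat.mul_le_mul_right _ hn
    have : 3 * m ≤ m * (m + 2) := by nlinarith
    omega
  rcases Int.natAbs_eq d with e1 | e1
  · refine key d.natAbs (by omega) hd ?_
    rw [e1, zpow_natCast] at e
    rw [e, hx]
  · refine key d.natAbs (by omega) hd ?_
    rw [e1, zpow_neg, zpow_natCast, inv_eq_iff_eq_inv] at e
    rw [e, inv_pow, hx]

theorem g_zpow_fix (n : ℤ) : (g ^ n) ^ q ^ 3 = g ^ n := by
  rw [← zpow_natCast, ← zpow_mul, mul_comm, zpow_mul, zpow_natCast, h.g_fix]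

/-- The cube of `kappa` is not `(a g)⁻¹`. -/
theorem kappa_three_ne : kappa q l c ^ 3 ≠ (l * l ^ q * g)⁻¹ := by
  intro e
  have hx : (kappa q l c ^ 3) ^ q ^ 3 = kappa q l c ^ 3 := by
    rw [e, inv_pow, mul_pow, h.g_fix]
    congr 2
    rw [show q ^ 3 = q * q * q by ring, pow_mul, pow_mul, h.a_fix, h.a_fix, h.a_fix]
  have h1 : (kappa q l c ^ 3) ^ q = kappa q l c ^ 3 := by
    rw [← pow_mul, mul_comm, pow_mul, ← h.kappa_cube, ← pow_mul, mul_comm, pow_mul, hx]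
  rw [e, inv_pow, inv_inj, mul_pow, h.a_fix, mul_left_cancel_iff] at h1
  exact h.g_q_ne h1

end Params

/-- The four roots with singleton fibres. -/
def pins : List (Root chevD4) := [rt 18, rt 13, rt 12, rt 19]

theorem fibre_table : ∀ u ∈ pins, ∀ r : Root chevD4,
    ((coef u 1 - coef r 1).natAbs ≤ 2 ∨ r = rt 0 ∧ u = rt 19) ∧
    (coef r 1 = coef u 1 →
      ((7 : ℤ) ∣ (coef r 0 - coef u 0) + (coef r 2 - coef u 2) * 2 + (coef r 3 - coef u 3) * 2 ^ 2 →
        r = u) ∧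
      (coef r 0 = coef u 0 ∧ coef r 2 = coef u 2 ∧ coef r 3 = coef u 3 → r = u) ∧
      (coef r 0 - coef u 0).natAbs ≤ 2 ∧ (coef r 2 - coef u 2).natAbs ≤ 2 ∧
      (coef r 3 - coef u 3).natAbs ≤ 2 ∧
      (coef r 0 - coef u 0).natAbs + (coef r 2 - coef u 2).natAbs +
        (coef r 3 - coef u 3).natAbs ≤ 3) := by
  decide +kernel

theorem regular_table : ∀ r : Root chevD4, (coef r 1).natAbs ≤ 2 ∧
    (coef r 1 = 0 →
      (¬ (7 : ℤ) ∣ coef r 0 + coef r 2 * 2 + coef r 3 * 2 ^ 2) ∧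
      ¬ (coef r 0 = 0 ∧ coef r 2 = 0 ∧ coef r 3 = 0) ∧
      (coef r 0).natAbs ≤ 2 ∧ (coef r 2).natAbs ≤ 2 ∧ (coef r 3).natAbs ≤ 2 ∧
      (coef r 0).natAbs + (coef r 2).natAbs + (coef r 3).natAbs ≤ 3) := by
  decide +kernel

theorem zero_of_dvd {q : ℤ} (hq : 3 ≤ q) {a b c : ℤ} (ha : a.natAbs ≤ 2) (hb : b.natAbs ≤ 2)
    (hc : c.natAbs ≤ 2) (hsum : a.natAbs + b.natAbs + c.natAbs ≤ 3)
    (h : q ^ 3 - 1 ∣ a + b * q + c * q ^ 2) : a = 0 ∧ b = 0 ∧ c = 0 := by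
  have na := Int.abs_eq_natAbs a
  have nb := Int.abs_eq_natAbs b
  have nc := Int.abs_eq_natAbs c
  have ha' : |a| ≤ 2 := by omega
  have hb' : |b| ≤ 2 := by omega
  have hc' : |c| ≤ 2 := by omega
  have hs : |a| + |b| + |c| ≤ 3 := by omega
  have h0 : a + b * q + c * q ^ 2 = 0 := by
    refine Int.eq_zero_of_abs_lt_dvd h ?_
    have h1 : |a + b * q + c * q ^ 2| ≤ |a| + |b| * q + |c| * q ^ 2 := by
      refine le_trans (abs_add_le _ _) (add_le_add (le_trans (abs_add_le _ _) (add_le_add le_rfl ?_)) ?_)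
      · rw [abs_mul, abs_of_nonneg (show (0 : ℤ) ≤ q by omega)]
      · rw [abs_mul, abs_of_nonneg (show (0 : ℤ) ≤ q ^ 2 by positivity)]
    have h2 : |a| + |b| * q + |c| * q ^ 2 ≤ q + 2 * q ^ 2 := by
      have := abs_nonneg a
      have := abs_nonneg b
      rcases le_or_gt |c| 1 with h1c | h1c
      · nlinarith [mul_le_mul_of_nonneg_right hb' (show (0 : ℤ) ≤ q by omega),
          mul_le_mul_of_nonneg_right h1c (show (0 : ℤ) ≤ q ^ 2 by positivity)]
      · have h2c : |c| = 2 := by omega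
        rw [h2c] at hs ⊢
        nlinarith [mul_le_mul_of_nonneg_right (show |b| ≤ 1 - |a| by omega)
          (show (0 : ℤ) ≤ q by omega)]
    nlinarith
  have ha0 : a = 0 := by
    refine Int.eq_zero_of_abs_lt_dvd (m := q) ⟨-(b + c * q), by linear_combination h0⟩ ?_
    omega
  subst ha0
  have hb0 : b = 0 := by
    have h1 : q * (b + c * q) = 0 := by linear_combination h0
    rcases mul_eq_zero.1 h1 with h2 | h2
    · omega
    refine Int.eq_zero_of_abs_lt_dvd (m := q) ⟨-c, by linear_combination h2⟩ ?_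
    omega
  subst hb0
  rcases mul_eq_zero.1 (show c * q ^ 2 = 0 by linear_combination h0) with h2 | h2
  · exact ⟨rfl, rfl, h2⟩
  · exact absurd (pow_eq_zero_iff (two_ne_zero) |>.1 h2) (by omega)

namespace Params

variable {f : L →+* L} {q : ℕ} {g l c : Lˣ} (h : Params f q g l c)
include h

theorem cast_ord : ((q ^ 3 - 1 : ℕ) : ℤ) = (q : ℤ) ^ 3 - 1 := by
  rw [Nat.cast_sub (Nat.one_le_pow _ _ (by have := h.two_le; omega))]
  push_cast
  ring

theorem g_zpow_eq_one {n : ℤ} (e : g ^ n = 1) : (q : ℤ) ^ 3 - 1 ∣ n := by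
  rw [← h.cast_ord, ← h.order_g]
  exact orderOf_dvd_iff_zpow_eq_one.2 e

theorem val_ne_one (r : Root chevD4) :
    torVal (gvec f (l * l ^ q) (l ^ q) c) (Sum.inr r) ≠ 1 := by
  intro e
  rw [h.val_eq] at e
  obtain ⟨h1, h2⟩ := regular_table r
  by_cases hd : coef r 1 = 0
  · rw [hd, zpow_zero, mul_one] at e
    obtain ⟨h7, hnz, ha, hb, hc, hs⟩ := h2 hd
    have hdvd := h.g_zpow_eq_one e
    rcases eq_or_lt_of_le h.two_le with hq | hq
    · subst hq; exact h7 (by norm_num at hdvd ⊢; exact hdvd)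
    · exact hnz (zero_of_dvd (by omega) ha hb hc hs hdvd)
  · exact h.kappa_zpow_notMem hd h1
      (x := g ^ (-(coef r 0 + coef r 2 * q + coef r 3 * (q : ℤ) ^ 2))) (h.g_zpow_fix _)
      (by rw [zpow_neg, eq_inv_iff_mul_eq_one, mul_comm, e])

theorem fibre {u : Root chevD4} (hu : u ∈ pins) {r : Root chevD4}
    (e : torVal (gvec f (l * l ^ q) (l ^ q) c) (Sum.inr r) =
      torVal (gvec f (l * l ^ q) (l ^ q) c) (Sum.inr u)) : r = u := by
  rw [h.val_eq, h.val_eq] at e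
  set xr : ℤ := coef r 0 + coef r 2 * q + coef r 3 * (q : ℤ) ^ 2 with hxr
  set xu : ℤ := coef u 0 + coef u 2 * q + coef u 3 * (q : ℤ) ^ 2 with hxu
  have e2 : kappa q l c ^ (coef u 1 - coef r 1) = g ^ (xr - xu) := by
    rw [zpow_sub, zpow_sub, eq_mul_inv_iff_mul_eq, mul_right_comm, mul_inv_eq_iff_eq_mul, e,
      mul_comm]
  obtain ⟨h1, h2⟩ := fibre_table u hu r
  by_cases hd : coef r 1 = coef u 1
  · obtain ⟨h7, hz, ha, hb, hc, hs⟩ := h2 hd
    rw [hd, sub_self, zpow_zero] at e2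
    have hdvd : (q : ℤ) ^ 3 - 1 ∣ (coef r 0 - coef u 0) + (coef r 2 - coef u 2) * q +
        (coef r 3 - coef u 3) * (q : ℤ) ^ 2 := by
      refine (h.g_zpow_eq_one e2.symm).trans (dvd_of_eq ?_)
      rw [hxr, hxu]; ring
    rcases eq_or_lt_of_le h.two_le with hq | hq
    · subst hq; exact h7 (by norm_num at hdvd ⊢; exact hdvd)
    · obtain ⟨za, zb, zc⟩ := zero_of_dvd (show (3 : ℤ) ≤ q by omega) ha hb hc hs hdvd
      exact hz ⟨by omega, by omega, by omega⟩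
  rcases h1 with h1 | ⟨rfl, rfl⟩
  · exact (h.kappa_zpow_notMem (sub_ne_zero.2 (Ne.symm hd)) h1 (h.g_zpow_fix _) e2).elim
  · exfalso
    refine h.kappa_three_ne ?_
    have hc0 : coef (rt 0) 0 = -1 ∧ coef (rt 0) 1 = -2 ∧ coef (rt 0) 2 = -1 ∧
        coef (rt 0) 3 = -1 ∧ coef (rt 19) 0 = 1 ∧ coef (rt 19) 1 = 1 ∧ coef (rt 19) 2 = 0 ∧
        coef (rt 19) 3 = 0 := by decide +kernel
    obtain ⟨c0, c1, c2, c3, c4, c5, c6, c7⟩ := hc0
    rw [hxr, hxu, c0, c1, c2, c3, c4, c5, c6, c7] at e2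
    rw [h.norm_l, ← pow_succ, ← zpow_natCast g, ← zpow_neg]
    refine Eq.trans ?_ (e2.trans ?_)
    · rw [← zpow_natCast]; norm_num
    · congr 1; push_cast; ring

theorem val_pow_eq_one (r : Root chevD4) :
    torVal (gvec f (l * l ^ q) (l ^ q) c) (Sum.inr r) ^ ((q ^ 3 - 1) * (q + 1)) = 1 := by
  have hg : g ^ ((q ^ 3 - 1) * (q + 1)) = 1 := by
    rw [pow_mul, ← h.order_g, pow_orderOf_eq_one, one_pow]
  have hsub : q - 1 ∣ q ^ 3 - 1 := by simpa using Nat.sub_dvd_pow_sub_pow q 1 3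
  have hl : l ^ ((q ^ 3 - 1) * (q + 1)) = 1 := by
    refine orderOf_dvd_iff_pow_eq_one.1 ?_
    rw [h.order_l, show q ^ 2 - 1 = (q - 1) * (q + 1) by
      rw [mul_comm]; simpa using Nat.sq_sub_sq q 1]
    exact mul_dvd_mul_right hsub _
  have hcp : c ^ ((q ^ 3 - 1) * (q + 1)) = 1 := by
    obtain ⟨i, rfl⟩ := h.mem_c
    simp only
    rw [← zpow_natCast, ← zpow_mul, mul_comm i, zpow_mul, zpow_natCast, hg, one_zpow]
  have hk : kappa q l c ^ ((q ^ 3 - 1) * (q + 1)) = 1 := by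
    simp only [kappa, mul_pow, inv_pow, ← pow_mul, mul_comm _ ((q ^ 3 - 1) * (q + 1))]
    simp only [pow_mul, hl, hcp, one_pow, inv_one, mul_one]
  have hz : ∀ (x : Lˣ) (n : ℤ) (N : ℕ), x ^ N = 1 → (x ^ n) ^ N = 1 := fun x n N e => by
    rw [← zpow_natCast, ← zpow_mul, mul_comm, zpow_mul, zpow_natCast, e, one_zpow]
  rw [h.val_eq, mul_pow, hz _ _ _ hg, hz _ _ _ hk, one_mul]

theorem dvd_of_val_pow_eq_one {n : ℕ}
    (hn : ∀ r : Root chevD4, torVal (gvec f (l * l ^ q) (l ^ q) c) (Sum.inr r) ^ n = 1) :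
    (q ^ 3 - 1) * (q + 1) ∣ n := by
  have hc18 : coef (rt 18) 0 = 1 ∧ coef (rt 18) 1 = 0 ∧ coef (rt 18) 2 = 0 ∧ coef (rt 18) 3 = 0 ∧
      coef (rt 14) 0 = 0 ∧ coef (rt 14) 1 = 1 ∧ coef (rt 14) 2 = 0 ∧ coef (rt 14) 3 = 0 := by
    decide +kernel
  obtain ⟨a0, a1, a2, a3, b0, b1, b2, b3⟩ := hc18
  have h1 := hn (rt 18)
  rw [h.val_eq, a0, a1, a2, a3] at h1
  simp only [zero_mul, add_zero, zpow_one, zpow_zero, mul_one] at h1
  have h2 := hn (rt 14)
  rw [h.val_eq, b0, b1, b2, b3] at h2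
  simp only [zero_mul, add_zero, zpow_one, zpow_zero, one_mul] at h2
  obtain ⟨m, rfl⟩ : q ^ 3 - 1 ∣ n := h.order_g ▸ orderOf_dvd_of_pow_eq_one h1
  have hgn : g ^ ((q ^ 3 - 1) * m) = 1 := h1
  have hcp : c ^ ((q ^ 3 - 1) * m) = 1 := by
    obtain ⟨i, rfl⟩ := h.mem_c
    simp only
    rw [← zpow_natCast, ← zpow_mul, mul_comm i, zpow_mul, zpow_natCast, hgn, one_zpow]
  have hap : (l * l ^ q) ^ ((q ^ 3 - 1) * m) = 1 := by
    rw [h.norm_l, ← pow_mul, mul_comm, pow_mul, hgn, one_pow]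
  have hl : l ^ ((q ^ 3 - 1) * m) = 1 := by
    have h3 : (l ^ q) ^ ((q ^ 3 - 1) * m) = 1 := by
      have hb : ((l * l ^ q) ^ 2 * (c ^ (1 + q + q ^ 2))⁻¹) ^ ((q ^ 3 - 1) * m) = 1 := by
        rw [mul_pow _ (c ^ (1 + q + q ^ 2))⁻¹, inv_pow, ← pow_mul (l * l ^ q), mul_comm 2, pow_mul,
          hap, one_pow, ← pow_mul c, mul_comm (1 + q + q ^ 2), pow_mul, hcp, one_pow, inv_one,
          one_mul]
      rw [kappa, mul_pow _ (l ^ q)⁻¹, hb, one_mul, inv_pow, inv_eq_one] at h2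
      exact h2
    rwa [mul_pow, h3, mul_one] at hap
  have h4 := h.order_l ▸ orderOf_dvd_of_pow_eq_one hl
  rw [show q ^ 2 - 1 = (q - 1) * (q + 1) by rw [mul_comm]; simpa using Nat.sq_sub_sq q 1,
    show q ^ 3 - 1 = (q - 1) * (q ^ 2 + q + 1) by
      obtain ⟨j, rfl⟩ : ∃ j, q = j + 1 := ⟨q - 1, by have := h.two_le; omega⟩
      simp only [Nat.add_sub_cancel]
      have : (j + 1) ^ 3 = j * ((j + 1) ^ 2 + (j + 1) + 1) + 1 := by ring
      omega, mul_assoc] at h4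
  have h5 := Nat.dvd_of_mul_dvd_mul_left (show 0 < q - 1 by have := h.two_le; omega) h4
  have hcop : Nat.Coprime (q + 1) (q ^ 2 + q + 1) := by
    rw [Nat.coprime_iff_gcd_eq_one, show q ^ 2 + q + 1 = 1 + q * (q + 1) by ring,
      Nat.gcd_add_mul_right_right, Nat.gcd_one_right]
  exact mul_dvd_mul_left _ (hcop.dvd_of_dvd_mul_left h5)

end Params

end CfsgLib.DFourTorus
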