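import Cfsg.Agent.DFourTorus.Regular
import Cfsg.Agent.DFourTorus.Twist
import Cfsg.Agent.DFourTorus.Arith

/-!
# The centraliser of the generator over the sextic extension
-/

set_option autoImplicit false

namespace CfsgLib.DFourTorus

open Cfsg.Lie CfsgLib.Chevalley CfsgLib.ChevTorus
open scoped MatrixGroups

variable {L : Type*} [Field L]

theorem torVal_mul {D : ChevalleyDatum} (c d : Fin D.rank → Lˣ) (a : D.Idx) :
    torVal (c * d) a = torVal c a * torVal d a := by
  simp [torVal, mul_zpow, Finset.prod_mul_distrib]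

theorem torVal_pow {D : ChevalleyDatum} (c : Fin D.rank → Lˣ) (n : ℕ) (a : D.Idx) :
    torVal (c ^ n) a = torVal c a ^ n := by
  induction n with
  | zero => simp [torVal]
  | succ n ih => rw [pow_succ, pow_succ, torVal_mul, ih]

theorem torVal_rev {D : ChevalleyDatum} (hD : Good D) (c : Fin D.rank → Lˣ) (r : Root D) :
    torVal c (Sum.inr r.rev) = (torVal c (Sum.inr r))⁻¹ := by
  rw [torVal, torVal, ← Finset.prod_inv_distrib]
  refine Finset.prod_congr rfl fun k _ => ?_
  rw [wt_inr, wt_inr, hD.cartan_rev, zpow_neg]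

theorem torC_eq_one {D : ChevalleyDatum} {c : Fin D.rank → Lˣ}
    (h : ∀ r : Root D, torVal c (Sum.inr r) = 1) : torC D c = 1 := by
  rw [show torC D c = tor (fun s : Root D => torVal c (Sum.inr s)) from rfl,
    show (fun s : Root D => torVal c (Sum.inr s)) = fun _ => 1 from funext h, tor_one]

theorem torVal_eq_one {D : ChevalleyDatum} {c : Fin D.rank → Lˣ} (h : torC D c = 1)
    (r : Root D) : torVal c (Sum.inr r) = 1 := by
  have e : (tor fun s : Root D => torVal c (Sum.inr s) : GL D.Idx L) = tor fun _ => 1 := by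
    rw [tor_one]; exact h
  exact congrFun (tor_injective e) r

/-- The torus vector of a root. -/
def rvec (r : Root chevD4) (u : Lˣ) : Fin chevD4.rank → Lˣ :=
  fun k => u ^ (chevD4.coroot.getD r #[]).getD k 0

theorem torVal_rvec (r s : Root chevD4) (u : Lˣ) :
    torVal (rvec r u) (Sum.inr s) = u ^ chevD4.pairing r s := by
  have e : (tor fun v : Root chevD4 => u ^ chevD4.pairing r v : GL I L) =
      tor fun v : Root chevD4 => torVal (rvec r u) (Sum.inr v) := (hT_eq_torC r u).trans rfl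
  exact (congrFun (tor_injective e) s).symm

/-- Conjugation by `n_r(y)` of a torus element. -/
theorem nElt_conj_torC (r : Root chevD4) (y : Lˣ) (v : Fin chevD4.rank → Lˣ) :
    nElt good_chevD4 r y * torC chevD4 v * (nElt good_chevD4 r y)⁻¹ =
      torC chevD4 (v * rvec r (torVal v (Sum.inr r))⁻¹) := by
  set x := torVal v (Sum.inr r) with hx
  have hX : ∀ (s : Root chevD4) (t : L), (torC chevD4 v)⁻¹ * X good_chevD4 s t * torC chevD4 v =
      X good_chevD4 s (((torVal v (Sum.inr s))⁻¹ : Lˣ) * t) := by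
    intro s t
    have h1 := torC_conj_X good_chevD4 v s (((torVal v (Sum.inr s))⁻¹ : Lˣ) * t : L)
    rw [← mul_assoc, ← Units.val_mul, mul_inv_cancel, Units.val_one, one_mul] at h1
    rw [← h1]
    group
  have h2 : (torC chevD4 v)⁻¹ * nElt good_chevD4 r y * torC chevD4 v =
      nElt good_chevD4 r (x⁻¹ * y) := by
    rw [nElt, nElt, show ∀ t a b c : GL I L, t⁻¹ * (a * b * c) * t =
      (t⁻¹ * a * t) * (t⁻¹ * b * t) * (t⁻¹ * c * t) from fun t a b c => by group, hX, hX,
      torVal_rev good_chevD4, ← hx, inv_inv, mul_inv_rev, inv_inv, mul_neg, Units.val_mul, Units.val_mul,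
      mul_comm (x : L)]
  have h3 : ∀ t : Lˣ, nElt good_chevD4 r t = hT L r t * (nElt good_chevD4 r (-1))⁻¹ := fun t => by
    rw [← hElt_eq goodW, mul_inv_cancel_right]
  calc nElt good_chevD4 r y * torC chevD4 v * (nElt good_chevD4 r y)⁻¹
      = torC chevD4 v * (((torC chevD4 v)⁻¹ * nElt good_chevD4 r y * torC chevD4 v) *
          (nElt good_chevD4 r y)⁻¹) := by group
    _ = torC chevD4 v * (hT L r (x⁻¹ * y) * (hT L r y)⁻¹) := by
        rw [h2, h3 (x⁻¹ * y), h3 y]; group
    _ = _ := by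
        rw [hT_inv, hT_mul, mul_inv_cancel_right, hT_eq_torC, torC_mul]
        rfl

theorem pin_pairing : ∀ r s : Root chevD4,
    (∀ u ∈ pins, chevD4.pairing (u : Root chevD4) s = chevD4.pairing (u : Root chevD4) r) → s = r := by
  decide +kernel

theorem cartan_table : ∀ (r : Root chevD4) (k : Fin chevD4.rank),
    chevD4.cartan k r = coef r 0 * chevD4.cartan k (rt 18) + coef r 1 * chevD4.cartan k (rt 14) +
      coef r 2 * chevD4.cartan k (rt 13) + coef r 3 * chevD4.cartan k (rt 12) := by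
  decide +kernel

theorem torVal_simple (v : Fin chevD4.rank → Lˣ) (r : Root chevD4) :
    torVal v (Sum.inr r) = torVal v (Sum.inr (rt 18)) ^ coef r 0 *
      torVal v (Sum.inr (rt 14)) ^ coef r 1 * torVal v (Sum.inr (rt 13)) ^ coef r 2 *
      torVal v (Sum.inr (rt 12)) ^ coef r 3 := by
  simp only [torVal, wt_inr, ← Finset.prod_zpow, ← Finset.prod_mul_distrib, ← zpow_mul, ← zpow_add]
  refine Finset.prod_congr rfl fun k _ => ?_
  rw [cartan_table r k]
  congr 1
  ring

theorem conjP_mem (y l : L) : conjP y l ∈ chevD4.group L :=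
  mul_mem (X_mem_group _ _ _) (X_mem_group _ _ _)

variable {q : ℕ} {g l c : Lˣ}

/-- The generator over the extension. -/
def genL (f : L ≃+* L) (q : ℕ) (l c : Lˣ) : GL I L :=
  gen f.toRingHom (l * l ^ q) ((l : L) + (l ^ q : Lˣ)) c

/-- The conjugating element. -/
def conjL (q : ℕ) (l : Lˣ) : GL I L :=
  conjP (((l * l ^ q : Lˣ) : L) / (((l ^ q : Lˣ) : L) - l)) (l : L)

variable {f : L ≃+* L}

theorem genL_conj (h : Params f.toRingHom q g l c) :
    conjL q l * genL f q l c * (conjL q l)⁻¹ =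
      torC chevD4 (gvec f.toRingHom (l * l ^ q) (l ^ q) c) := by
  rw [torC_gvec]
  exact conj_gen f.toRingHom rfl fun e => h.l_ne (Units.ext e)

theorem orderOf_genL (h : Params f.toRingHom q g l c) :
    orderOf (genL f q l c) = (q ^ 3 - 1) * (q + 1) := by
  rw [← MulEquiv.orderOf_eq (MulAut.conj (conjL q l)), MulAut.conj_apply, genL_conj h]
  refine Nat.dvd_antisymm (orderOf_dvd_of_pow_eq_one ?_) (h.dvd_of_val_pow_eq_one fun r => ?_)
  · show torHom chevD4 L _ ^ _ = 1
    rw [← map_pow]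
    exact torC_eq_one fun r => by rw [torVal_pow]; exact h.val_pow_eq_one r
  · rw [← torVal_pow]
    refine torVal_eq_one ?_ r
    show torHom chevD4 L _ = 1
    rw [map_pow]
    exact pow_orderOf_eq_one _

/-- Elements commuting with the generator are conjugate into the torus. -/
theorem mem_diag_of_commute_genL (h : Params f.toRingHom q g l c) {x : GL I L}
    (hx : x ∈ chevD4.group L) (he : genL f q l c * x = x * genL f q l c) :
    conjL q l * x * (conjL q l)⁻¹ ∈ chevD4.diagonalSubgroup L := by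
  refine mem_diag_of_commute goodW Weyl.rootD4_good h.val_ne_one (fun w hw => ?_)
    (mul_mem (mul_mem (conjP_mem _ _) hx) (inv_mem (conjP_mem _ _))) ?_
  · refine Equiv.ext fun r => pin_pairing r _ fun u hu => ?_
    have hu' : Weyl.rootD4_good.rootPerm w u = u := h.fibre hu (hw u)
    conv_lhs => rw [← hu']
    exact pairing_rootPerm goodW Weyl.rootD4_good w u r
  · rw [← genL_conj h]
    calc conjL q l * genL f q l c * (conjL q l)⁻¹ * (conjL q l * x * (conjL q l)⁻¹)
        = conjL q l * (genL f q l c * x) * (conjL q l)⁻¹ := by group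
      _ = _ := by rw [he]; group

theorem sig_pair : chevD4.pairing (rt 23) (rt 18) = 0 ∧ chevD4.pairing (rt 23) (rt 13) = 0 ∧
    chevD4.pairing (rt 23) (rt 12) = 0 ∧ chevD4.pairing (rt 23) (rt 14) = 1 ∧
    coef (rt 23) 0 = 1 ∧ coef (rt 23) 1 = 2 ∧ coef (rt 23) 2 = 1 ∧ coef (rt 23) 3 = 1 := by
  decide +kernel

/-- The constraints on the torus values of a fixed element. -/
theorem values_of_fixed (h : Params f.toRingHom q g l c) {x : GL I L} (hx : tw f x = x)
    {v : Fin chevD4.rank → Lˣ} (hv : torC chevD4 v = conjL q l * x * (conjL q l)⁻¹) :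
    torVal v (Sum.inr (rt 13)) = torVal v (Sum.inr (rt 18)) ^ q ∧
    torVal v (Sum.inr (rt 12)) = torVal v (Sum.inr (rt 18)) ^ q ^ 2 ∧
    torVal v (Sum.inr (rt 18)) ^ q ^ 3 = torVal v (Sum.inr (rt 18)) ∧
    torVal v (Sum.inr (rt 14)) ^ (q + 1) =
      (torVal v (Sum.inr (rt 18)) ^ (1 + q + q ^ 2))⁻¹ := by
  have hne : ((l ^ q : Lˣ) : L) - l ≠ 0 := sub_ne_zero.2 fun e => h.l_ne (Units.ext e.symm)
  set yU : Lˣ := (l * l ^ q) * (Units.mk0 _ hne)⁻¹ with hyU
  have hy : (yU : L) = ((l * l ^ q : Lˣ) : L) / (((l ^ q : Lˣ) : L) - l) := by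
    rw [hyU, Units.val_mul, Units.val_inv_eq_inv_val, div_eq_mul_inv]; rfl
  have hfl : ∀ u : Lˣ, f (u : L) = ((u ^ q : Lˣ) : L) := fun u => by
    rw [Units.val_pow_eq_pow_val]; exact h.hf _
  set P := conjL q l with hP
  have hP' : tw f P = X4 23 (-(yU : L)) * X4 0 (-((l ^ q : Lˣ) : L)⁻¹) := by
    rw [hP, conjL, conjP, map_mul, tw_X4 f 23 23 _ (by decide) (by simp) sig_facts.2.2.2.2.2.2.2.2.1,
      tw_X4 f 0 0 _ (by decide) (by simp) sig_facts.2.2.2.2.2.2.2.2.2, map_neg, map_inv₀, map_div₀,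
      map_sub, hfl, hfl, hfl, hy, h.a_fix, ← pow_mul, ← sq, h.l_fix]
    congr 2
    rw [← div_neg, neg_sub]
  have hn : P * (tw f P)⁻¹ = nElt good_chevD4 (rt 23) yU := by
    rw [hP', hP, conjL, conjP, ← hy, mul_inv_rev, X_inv, X_inv, neg_neg, neg_neg, nElt, rev_facts.1,
      show ∀ a b c d : GL I L, a * b * (c * d) = a * (b * c) * d from fun a b c d => by group, X_mul]
    congr 3
    rw [Units.val_inv_eq_inv_val, hy, inv_div, Units.val_mul]
    have := l.ne_zero
    have := (l ^ q).ne_zero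
    field_simp
    ring
  have hninv : (nElt good_chevD4 (rt 23) yU)⁻¹ = nElt good_chevD4 (rt 23) (-yU) :=
    (nElt_neg good_chevD4 _ _).symm
  have htw : tw f (torC chevD4 v) =
      torC chevD4 (v * rvec (rt 23) (torVal v (Sum.inr (rt 23)))⁻¹) := by
    rw [← nElt_conj_torC (rt 23) (-yU) v, ← hninv, inv_inv, ← hn, hv, map_mul, map_mul, map_inv, hx]
    group
  have hval : ∀ r : Root chevD4, (torVal v (Sum.inr (sig r)) : Lˣ) *
      ((torVal v (Sum.inr (rt 23)))⁻¹) ^ chevD4.pairing (rt 23) (sig r) =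
        torVal v (Sum.inr r) ^ q := fun r => by
    apply Units.ext
    have e := tw_torVal f htw r
    rw [torVal_mul, torVal_rvec] at e
    rw [e, hfl]
  obtain ⟨p18, p13, p12, p14, c0, c1, c2, c3⟩ := sig_pair
  have e13 := hval (rt 18)
  rw [sig_facts.1, p13, zpow_zero, mul_one] at e13
  have e12 := hval (rt 13)
  rw [sig_facts.2.1, p12, zpow_zero, mul_one] at e12
  have e18 := hval (rt 12)
  rw [sig_facts.2.2.1, p18, zpow_zero, mul_one] at e18
  have e14 := hval (rt 14)
  rw [sig_facts.2.2.2.1, p14, zpow_one, torVal_simple v (rt 23), c0, c1, c2, c3] at e14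
  set A := torVal v (Sum.inr (rt 18))
  set B := torVal v (Sum.inr (rt 14))
  rw [e12, e13] at e18
  rw [e12, e13] at e14
  refine ⟨e13, by rw [e12, e13, ← pow_mul, sq], ?_, ?_⟩
  · rw [show q ^ 3 = q * q * q by ring, pow_mul, pow_mul]; exact e18.symm
  · rw [zpow_one, zpow_one, zpow_one, zpow_ofNat] at e14
    have hA : A ^ (1 + q + q ^ 2) = A * A ^ q * (A ^ q) ^ q := by
      rw [← pow_mul, sq, pow_add, pow_add, pow_one]
    rw [pow_succ, ← e14, hA, eq_inv_iff_mul_eq_one, sq]
    simp only [mul_inv_rev]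
    calc _ = (B * B⁻¹) * (B * B⁻¹) * (A * A⁻¹) * (A ^ q * (A ^ q)⁻¹) *
        ((A ^ q) ^ q * ((A ^ q) ^ q)⁻¹) := by ac_rfl
      _ = 1 := by simp

theorem torC_injective_of_values {v w : Fin chevD4.rank → Lˣ}
    (e18 : torVal v (Sum.inr (rt 18)) = torVal w (Sum.inr (rt 18)))
    (e14 : torVal v (Sum.inr (rt 14)) = torVal w (Sum.inr (rt 14)))
    (e13 : torVal v (Sum.inr (rt 13)) = torVal w (Sum.inr (rt 13)))
    (e12 : torVal v (Sum.inr (rt 12)) = torVal w (Sum.inr (rt 12))) :
    torC chevD4 v = torC chevD4 w := by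
  rw [show torC chevD4 v = tor (fun s : Root chevD4 => torVal v (Sum.inr s)) from rfl,
    show torC chevD4 w = tor (fun s : Root chevD4 => torVal w (Sum.inr s)) from rfl]
  congr 1
  funext r
  rw [torVal_simple v r, torVal_simple w r, e18, e14, e13, e12]

end CfsgLib.DFourTorus
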