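import Cfsg.Agent.Chevalley.GoodD4
import Cfsg.Agent.Chevalley.CommChecks
import Cfsg.Agent.Chevalley.UnipotentMain
import Cfsg.Agent.Chevalley.WeylChecks
import Cfsg.Agent.Chevalley.Reflection
import Cfsg.Agent.Weyl.RootD4

/-!
The table checks for type D₄ alone.
-/

set_option autoImplicit false

namespace CfsgLib.DFourTorus

open Cfsg.Lie CfsgLib.Chevalley

theorem commD4 : chkComm chevD4 = true := by decide +kernel
theorem primD4 : chkPrimitive chevD4 = true := by decide +kernel
theorem reflAllD4 : chkReflAll chevD4 = true := by decide +kernel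
theorem descentD4 : chkDescent chevD4 = true := by decide +kernel

theorem goodW : GoodWeyl chevD4 :=
  ⟨⟨⟨good_chevD4, commD4⟩, primD4⟩, reflAllD4, descentD4⟩

end CfsgLib.DFourTorus
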