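import Cfsg.Agent.DFourTorus.Centralizer
import Cfsg.Agent.LinearOrders.Basic

/-!
# A self-centralising cyclic subgroup of order `(q³ - 1)(q + 1)` of `³D₄(q)`
-/

set_option autoImplicit false

namespace CfsgLib.DFourTorus

open Cfsg.Lie CfsgLib.Chevalley CfsgLib.ChevTorus
open scoped MatrixGroups

variable {K L : Type*} [Field K] [Field L]

theorem mapG_injective (ι : K →+* L) : Function.Injective (mapG ι) := by
  intro x y h
  refine Units.ext (Matrix.ext fun a b => ι.injective ?_)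
  exact congrArg (fun g : GL I L => (g : Matrix I I L) a b) h

theorem mapG_H4 (ι : K →+* L) (n : ℕ) (hn : n < 24) (u : Kˣ) :
    mapG ι (H4 n u hn) = H4 n (Units.map (ι : K →* L) u) hn := by
  apply Units.ext
  ext a b
  show ι ((Matrix.diagonal _ : Matrix I I K) a b) = (Matrix.diagonal _ : Matrix I I L) a b
  rw [Matrix.diagonal_apply, Matrix.diagonal_apply]
  split
  · rcases a with i | s
    · exact map_one ι
    · simp only [Sum.elim_inr, Units.val_zpow_eq_zpow_val, map_zpow₀]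
      rfl
  · exact map_zero ι

theorem mapG_gen (ι : K →+* L) (fK : K →+* K) (fL : L →+* L) (hι : ∀ x, ι (fK x) = fL (ι x))
    (a : Kˣ) (s : K) (c : Kˣ) :
    mapG ι (gen fK a s c) = gen fL (Units.map (ι : K →* L) a) (ι s) (Units.map (ι : K →* L) c) := by
  have hu : ∀ u : Kˣ, Units.map (ι : K →* L) (fU fK u) = fU fL (Units.map (ι : K →* L) u) :=
    fun u => Units.ext (hι u)
  simp only [gen, hSplit, map_mul, mapG_X4, mapG_H4, hu, map_div₀, map_neg, map_one]
  rfl

/-- The value pairs of a fixed torus. -/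
theorem card_pairs_le [Finite L] {q : ℕ} (hq : 2 ≤ q) (S : Finset (Lˣ × Lˣ))
    (hS : ∀ p ∈ S, p.1 ^ q ^ 3 = p.1 ∧ p.2 ^ (q + 1) = (p.1 ^ (1 + q + q ^ 2))⁻¹) :
    S.card ≤ (q ^ 3 - 1) * (q + 1) := by
  classical
  letI := Fintype.ofFinite Lˣ
  have hq3 : 1 < q ^ 3 := Nat.one_lt_pow (by norm_num) (by omega)
  have himg : (S.image Prod.fst).card ≤ q ^ 3 - 1 := by
    refine le_trans (Finset.card_le_card (t := Finset.univ.filter fun a : Lˣ => a ^ (q ^ 3 - 1) = 1)
      ?_) (IsCyclic.card_pow_eq_one_le (by omega))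
    intro a ha
    obtain ⟨p, hp, rfl⟩ := Finset.mem_image.1 ha
    refine Finset.mem_filter.2 ⟨Finset.mem_univ _, ?_⟩
    have h1 := (hS p hp).1
    rw [← Nat.sub_add_cancel hq3.le, pow_succ] at h1
    exact mul_eq_right.1 h1
  refine le_trans (Finset.card_le_mul_card_image (f := Prod.fst) S (q + 1) fun a _ => ?_) ?_
  · rcases Finset.eq_empty_or_nonempty (S.filter fun p => p.1 = a) with he | ⟨p₀, hp₀⟩
    · rw [he]; simp
    · obtain ⟨hp₀S, hp₀a⟩ := Finset.mem_filter.1 hp₀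
      refine le_trans (Finset.card_le_card_of_injOn (fun p => p.2 * p₀.2⁻¹)
        (t := Finset.univ.filter fun b : Lˣ => b ^ (q + 1) = 1) ?_ ?_)
        (IsCyclic.card_pow_eq_one_le (by omega))
      · intro p hp
        obtain ⟨hpS, hpa⟩ := Finset.mem_filter.1 hp
        refine Finset.mem_coe.2 (Finset.mem_filter.2 ⟨Finset.mem_univ _, ?_⟩)
        rw [mul_pow, inv_pow, (hS p hpS).2, (hS p₀ hp₀S).2, hpa, hp₀a, mul_inv_cancel]
      · intro p hp p' hp' e
        obtain ⟨-, hpa⟩ := Finset.mem_filter.1 (Finset.mem_coe.1 hp)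
        obtain ⟨-, hpa'⟩ := Finset.mem_filter.1 (Finset.mem_coe.1 hp')
        exact Prod.ext (hpa.trans hpa'.symm) (mul_right_cancel e)
  · rw [mul_comm]
    exact Nat.mul_le_mul_right _ himg

/-- The main theorem. -/
theorem main [Fintype K] (q : ℕ) (hq : IsPrimePow q) (hK : Fintype.card K = q ^ 3) :
    ∃ H : Subgroup ↥(twistedD4 K q), IsCyclic ↥H ∧ Nat.card ↥H = (q ^ 3 - 1) * (q + 1) ∧
      Subgroup.centralizer (H : Set ↥(twistedD4 K q)) = H := by
  classical
  obtain ⟨p, k, hp, hk, hqe⟩ := hq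
  haveI hp' : Fact p.Prime := ⟨hp.nat_prime⟩
  haveI : CharP K p := by
    obtain ⟨p', hp''⟩ := CharP.exists K
    obtain ⟨m, hp'p, hm⟩ := FiniteField.card K p'
    have hdvd : p ∣ p' ^ (m : ℕ) := by
      rw [← hm, hK, ← hqe, ← pow_mul]
      exact dvd_pow_self p (mul_ne_zero hk.ne' (by norm_num))
    rwa [← (Nat.prime_dvd_prime_iff_eq hp'.out hp'p).1 (hp'.out.dvd_of_dvd_pow hdvd)] at hp''
  have hq2 : 2 ≤ q := hqe ▸ le_trans hp'.out.two_le (Nat.le_self_pow hk.ne' p)
  let L := FiniteField.Extension K p 2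
  haveI : Fintype L := Fintype.ofFinite L
  set ι : K →+* L := algebraMap K L with hι
  haveI : CharP L p := charP_of_injective_algebraMap ι.injective p
  have hL : Nat.card Lˣ = q ^ 6 - 1 := by
    rw [Nat.card_units, FiniteField.natCard_extension, Nat.card_eq_fintype_card, hK, ← pow_mul]
  let fK : K →+* K := iterateFrobenius K p k
  have hfK : ∀ x, fK x = x ^ q := fun x => hqe ▸ iterateFrobenius_def p k x
  let fL : L ≃+* L := RingEquiv.ofBijective (iterateFrobenius L p k)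
    ⟨(iterateFrobenius L p k).injective,
      Finite.injective_iff_surjective.1 (iterateFrobenius L p k).injective⟩
  have hfL : ∀ x, fL x = x ^ q := fun x => hqe ▸ iterateFrobenius_def p k x
  obtain ⟨z, hz⟩ := IsCyclic.exists_ofOrder_eq_natCard (α := Lˣ)
  rw [hL] at hz
  have e6 : q ^ 6 - 1 = (q ^ 3 + 1) * (q ^ 3 - 1) := by
    rw [show q ^ 6 = (q ^ 3) ^ 2 by ring]; simpa using Nat.sq_sub_sq (q ^ 3) 1
  have e6' : q ^ 6 - 1 = (q ^ 4 + q ^ 2 + 1) * (q ^ 2 - 1) := by
    have h : q ^ 6 = (q ^ 4 + q ^ 2 + 1) * (q ^ 2 - 1) + 1 := by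
      obtain ⟨j, hj⟩ : ∃ j, q ^ 2 = j + 1 := ⟨q ^ 2 - 1, by have := Nat.one_le_pow 2 q (by omega); omega⟩
      rw [show q ^ 6 = (q ^ 2) ^ 3 by ring, show q ^ 4 = (q ^ 2) ^ 2 by ring, hj, Nat.add_sub_cancel]
      ring
    omega
  set g : Lˣ := z ^ (q ^ 3 + 1) with hg
  set l : Lˣ := z ^ (q ^ 4 + q ^ 2 + 1) with hl
  obtain ⟨mm, hmm⟩ : ∃ mm, 2 * mm = q ^ 2 + q + 2 := by
    obtain ⟨r, hr⟩ := Nat.even_mul_succ_self q
    exact ⟨r + 1, by nlinarith⟩
  set c : Lˣ := g ^ mm with hc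
  have hog : orderOf g = q ^ 3 - 1 := by
    rw [hg, orderOf_pow_of_dvd (by omega) (hz ▸ e6 ▸ dvd_mul_right _ _), hz, e6,
      Nat.mul_div_cancel_left _ (by omega)]
  have hnl : l * l ^ q = g ^ (q ^ 2 + q + 1) := by
    rw [hg, hl, ← pow_mul, ← pow_mul, ← pow_add]
    congr 1
    ring
  have hP : Params fL.toRingHom q g l c := by
    refine ⟨hq2, hfL, hog, ?_, hnl, ?_, ⟨(mm : ℤ), by simp [hc]⟩⟩
    · rw [hl, orderOf_pow_of_dvd (by positivity) (hz ▸ e6' ▸ dvd_mul_right _ _), hz, e6',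
        Nat.mul_div_cancel_left _ (by positivity)]
    · rw [hnl, hc, ← pow_succ, ← pow_mul]
      congr 1
      omega
  -- the descents
  have hdesc : ∀ y : L, y ^ q ^ 3 = y → ∃ a : K, ι a = y := fun y hy =>
    CfsgLib.LinearOrders.exists_algebraMap_eq y (by rw [hK]; exact hy)
  have hfix : ∀ y : L, y ^ q = y → y ^ q ^ 3 = y := fun y hy => by
    rw [show q ^ 3 = q * q * q by ring, pow_mul, pow_mul, hy, hy, hy]
  obtain ⟨g', hg'⟩ := hdesc (g : L) (by rw [← Units.val_pow_eq_pow_val, hP.g_fix])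
  have hg0 : g' ≠ 0 := fun e => g.ne_zero (by rw [← hg', e, map_zero])
  set gK : Kˣ := Units.mk0 g' hg0 with hgK
  have hgKι : Units.map (ι : K →* L) gK = g := Units.ext hg'
  set aK : Kˣ := gK ^ (q ^ 2 + q + 1) with haK
  set cK : Kˣ := gK ^ mm with hcK
  have hsL : ((l : L) + ((l ^ q : Lˣ) : L)) ^ q = (l : L) + ((l ^ q : Lˣ) : L) := by
    rw [← hfL, map_add, hfL, hfL, ← Units.val_pow_eq_pow_val, ← Units.val_pow_eq_pow_val,
      show (l ^ q) ^ q = l by rw [← pow_mul l q q, ← sq, hP.l_fix], add_comm]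
  obtain ⟨sK, hsK⟩ := hdesc _ (hfix _ hsL)
  have haKι : Units.map (ι : K →* L) aK = l * l ^ q := by rw [haK, map_pow, hgKι, hnl]
  have hcKι : Units.map (ι : K →* L) cK = c := by rw [hcK, map_pow, hgKι, hc]
  have hfa : fK (aK : K) = aK := ι.injective (by
    rw [hfK, map_pow, show ι (aK : K) = ((l * l ^ q : Lˣ) : L) from congrArg Units.val haKι,
      ← Units.val_pow_eq_pow_val, hP.a_fix])
  have hfs : fK sK = sK := ι.injective (by rw [hfK, map_pow, hsK, hsL])
  have hG0 := gen_mem (K := K) (q := q) hfK cK hfa hfs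
  set G0 : ↥(twistedD4 K q) := ⟨_, hG0⟩ with hG0def
  have hmap : mapG ι (G0 : GL I K) = genL fL q l c := by
    rw [hG0def, mapG_gen ι fK fL.toRingHom (fun x => by
      rw [hfK, map_pow]; exact (hfL _).symm), haKι, hcKι, hsK]
    rfl
  let Φ : ↥(twistedD4 K q) →* GL I L := (mapG ι).comp (twistedD4 K q).subtype
  have hΦ : Function.Injective Φ := fun x y e => Subtype.ext (mapG_injective ι e)
  have hord : orderOf G0 = (q ^ 3 - 1) * (q + 1) := by
    rw [← orderOf_injective Φ hΦ, ← orderOf_genL hP, ← hmap]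
    rfl
  haveI : Finite ↥(twistedD4 K q) := inferInstance
  refine ⟨Subgroup.zpowers G0, inferInstance, by rw [Nat.card_zpowers, hord], ?_⟩
  symm
  refine Subgroup.eq_of_le_of_card_ge ?_ ?_
  · intro x hx
    refine Subgroup.mem_centralizer_iff.2 fun y hy => ?_
    obtain ⟨m, rfl⟩ := Subgroup.mem_zpowers_iff.1 hx
    obtain ⟨j, rfl⟩ := Subgroup.mem_zpowers_iff.1 hy
    exact Commute.zpow_zpow_self _ _ _
  rw [Nat.card_zpowers, hord]
  set C := Subgroup.centralizer (Subgroup.zpowers G0 : Set ↥(twistedD4 K q)) with hC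
  have key : ∀ x : C, ∃ v : Fin chevD4.rank → Lˣ,
      torC chevD4 v = conjL q l * mapG ι ((x : ↥(twistedD4 K q)) : GL I K) * (conjL q l)⁻¹ := by
    intro x
    have hcomm := congrArg Φ (Subgroup.mem_centralizer_iff.1 x.2 _ (Subgroup.mem_zpowers G0))
    rw [map_mul, map_mul, show Φ G0 = genL fL q l c from hmap] at hcomm
    have hd := mem_diag_of_commute_genL hP (mapG_mem_group ι (x : ↥(twistedD4 K q)).2) hcomm
    rw [diagonalSubgroup_eq_range goodW] at hd
    obtain ⟨v, hv⟩ := hd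
    exact ⟨v, hv⟩
  choose v hv using key
  have hvals := fun x : C => values_of_fixed hP
    (tw_mapG ι fL hfL (fun t => by rw [← hK]; exact FiniteField.pow_card t)
      (x : ↥(twistedD4 K q)).2) (hv x)
  letI : Fintype C := Fintype.ofFinite C
  let ψ : C → Lˣ × Lˣ := fun x =>
    (torVal (v x) (Sum.inr (rt 18)), torVal (v x) (Sum.inr (rt 14)))
  have hψ : Function.Injective ψ := by
    intro x y e
    obtain ⟨e18, e14⟩ := Prod.ext_iff.1 e
    obtain ⟨x13, x12, -, -⟩ := hvals x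
    obtain ⟨y13, y12, -, -⟩ := hvals y
    dsimp only [ψ] at e18 e14
    have h := torC_injective_of_values e18 e14 (by rw [x13, y13, e18]) (by rw [x12, y12, e18])
    rw [hv, hv] at h
    exact Subtype.ext (hΦ (mul_left_cancel (mul_right_cancel h)))
  calc Nat.card C = (Finset.univ.image ψ).card := by
        rw [Finset.card_image_of_injective _ hψ, Finset.card_univ, Nat.card_eq_fintype_card]
    _ ≤ (q ^ 3 - 1) * (q + 1) := by
        refine card_pairs_le hq2 _ fun p hp => ?_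
        obtain ⟨x, -, rfl⟩ := Finset.mem_image.1 hp
        exact ⟨(hvals x).2.2.1, (hvals x).2.2.2⟩

end CfsgLib.DFourTorus
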