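import Cfsg.Agent.Chevalley.BruhatUnique
import Cfsg.Agent.ChevTorus.Scaling

/-!
# The centraliser of a regular element of the torus, via the Weyl group

If no root takes the value `1` at a torus element, an element of the Chevalley group commuting with
it is a monomial element of the stabiliser of the values; it lies in the diagonal subgroup as soon
as this stabiliser in the Weyl group is trivial. The Weyl group preserves the pairing of the roots.
-/

set_option autoImplicit false

namespace CfsgLib.DFourTorus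

open Cfsg.Lie CfsgLib.Chevalley CfsgLib.ChevTorus

variable {D : ChevalleyDatum} {F : Type*} [Field F]

theorem torC_mem_diag (hW : GoodWeyl D) (c : Fin D.rank → Fˣ) :
    torC D c ∈ D.diagonalSubgroup F := by
  rw [diagonalSubgroup_eq_range hW]
  exact ⟨c, rfl⟩

/-- A regular element commutes with no nontrivial element of `U`. -/
theorem eq_one_of_commute_regular (hW : GoodWeyl D) {c : Fin D.rank → Fˣ}
    (hc : ∀ r : Root D, torVal c (Sum.inr r) ≠ 1)
    {u : GL D.Idx F} (hu : u ∈ D.posUnipotent F) (he : torC D c * u = u * torC D c) : u = 1 := by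
  rw [posUnipotent_eq hW.good] at hu
  have hmk : half D + half D = D.nroots := by have := hW.good.two_half; omega
  obtain ⟨t, rfl⟩ := exists_prodFrom hW.toGoodComm (half D) (half D) le_rfl hmk u hu
  have hconj : ∀ m k : ℕ, torC D c * prodFrom hW.good false t m k * (torC D c)⁻¹ =
      prodFrom hW.good false
        (fun j => (torVal c (Sum.inr (rootOf hW.good false j)) : F) * t j) m k := by
    intro m k
    rw [prodFrom, prodFrom, ← MulAut.conj_apply, map_list_prod, List.map_map]
    refine congrArg List.prod (List.map_congr_left fun j _ => ?_)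
    rw [Function.comp_apply, MulAut.conj_apply]
    exact torC_conj_X hW.good c _ _
  have h2 := prodFrom_injective hW.toGoodUni (half D) (half D) le_rfl hmk _ t
    ((hconj _ _).symm.trans (mul_inv_eq_iff_eq_mul.2 he))
  have h0 : ∀ j, half D ≤ j → j < half D + half D → t j = 0 := by
    intro j hj hj'
    by_contra hne
    refine hc (rootOf hW.good false j) (Units.ext (mul_right_cancel₀ hne ?_))
    rw [Units.val_one, one_mul]
    exact h2 j hj hj'
  rw [prodFrom_congr hW.good (t' := fun _ => 0) h0]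
  refine List.prod_eq_one fun x hx => ?_
  obtain ⟨j, -, rfl⟩ := List.mem_map.1 hx
  exact X_zero _ _

/-- The centraliser of a regular element in the group is the diagonal subgroup when no
non-trivial Weyl group element fixes the values. -/
theorem mem_diag_of_commute {C : Weyl.Cert D.rank} {M : CoxeterMatrix (Fin D.rank)}
    {R : Weyl.RootTable} (hW : GoodWeyl D) (h : Weyl.RootGood C M R) {c : Fin D.rank → Fˣ}
    (hc : ∀ r : Root D, torVal c (Sum.inr r) ≠ 1)
    (hst : ∀ w : M.Group, (∀ r : Root D,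
      torVal c (Sum.inr (h.rootPerm w r)) = torVal c (Sum.inr r)) → h.rootPerm w = 1) {g : GL D.Idx F} (hg : g ∈ D.group F)
    (he : torC D c * g = g * torC D c) : g ∈ D.diagonalSubgroup F := by
  set t : GL D.Idx F := torC D c with ht
  have htd : t ∈ D.diagonalSubgroup F := torC_mem_diag hW c
  obtain ⟨⟨w, b, u⟩, ⟨hb, hu, e⟩, huniq⟩ := existsUnique_form hW h hg
  dsimp only at hb hu e huniq
  set n := nW hW h F w with hn
  have hnN : n ∈ D.monomialSubgroup F := nW_mem hW h w
  -- the conjugate of the form is a form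
  set k := n⁻¹ * t * n * t⁻¹ with hkdef
  have hk : k ∈ D.diagonalSubgroup F :=
    mul_mem ((Subgroup.mem_normalizer_iff''.1 (monomial_le_normalizer hW hnN) t).1 htd) (inv_mem htd)
  have hnk : n * k * n⁻¹ ∈ D.diagonalSubgroup F :=
    (Subgroup.mem_normalizer_iff.1 (monomial_le_normalizer hW hnN) k).1 hk
  have hu' : t * u * t⁻¹ ∈ uW hW h F w := diag_conj_rootGen hW htd hu
  have hb' : t * b * t⁻¹ * (n * k * n⁻¹) ∈ D.borelSubgroup F :=
    mul_mem (mul_mem (mul_mem (diag_le_borel D htd) hb) (inv_mem (diag_le_borel D htd)))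
      (diag_le_borel D hnk)
  have e' : t * b * t⁻¹ * (n * k * n⁻¹) * n * (t * u * t⁻¹) = g := by
    rw [hkdef, show t * b * t⁻¹ * (n * (n⁻¹ * t * n * t⁻¹) * n⁻¹) * n * (t * u * t⁻¹) =
      t * (b * n * u) * t⁻¹ by group, e, he, mul_inv_cancel_right]
  have h3 := huniq (w, t * b * t⁻¹ * (n * k * n⁻¹), t * u * t⁻¹) ⟨hb', hu', e'⟩
  simp only [Prod.mk.injEq, true_and] at h3
  obtain ⟨h1, h2⟩ := h3
  have hu1 : u = 1 := eq_one_of_commute_regular hW hc (uW_le_pos hW h w hu)
    (mul_inv_eq_iff_eq_mul.1 h2)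
  obtain ⟨v, hv, d, hd, rfl⟩ := (mem_borel_iff hW).1 hb
  have hdt : t * d * t⁻¹ = d := by rw [diag_comm hW htd hd, mul_inv_cancel_right]
  have h4 : v⁻¹ * (t * v * t⁻¹) = d * (n * k * n⁻¹)⁻¹ * d⁻¹ := by
    have : t * v * t⁻¹ * (t * d * t⁻¹) * (n * k * n⁻¹) = v * d := by rw [← h1]; group
    rw [hdt] at this
    rw [show t * v * t⁻¹ = v * d * (n * k * n⁻¹)⁻¹ * d⁻¹ by rw [← this]; group]
    group
  have hvU : t * v * t⁻¹ ∈ D.posUnipotent F :=
    (Subgroup.mem_normalizer_iff.1 (diag_le_normalizer_pos hW htd) v).1 hv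
  have h5 : v⁻¹ * (t * v * t⁻¹) = 1 := by
    have h8 : v⁻¹ * (t * v * t⁻¹) ∈ D.posUnipotent F ⊓ D.diagonalSubgroup F :=
      Subgroup.mem_inf.2 ⟨mul_mem (inv_mem hv) hvU,
        h4 ▸ mul_mem (mul_mem hd (inv_mem hnk)) (inv_mem hd)⟩
    rw [pos_inf_diag hW] at h8
    exact Subgroup.mem_bot.1 h8
  have hv1 : v = 1 := eq_one_of_commute_regular hW hc hv
    (mul_inv_eq_iff_eq_mul.1 (inv_mul_eq_one.1 h5).symm)
  have hk1 : k = 1 := by
    rw [h5] at h4
    have h6 : (n * k * n⁻¹)⁻¹ = 1 := by
      calc (n * k * n⁻¹)⁻¹ = d⁻¹ * (d * (n * k * n⁻¹)⁻¹ * d⁻¹) * d := by group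
        _ = 1 := by rw [← h4]; group
    rw [inv_eq_one] at h6
    calc k = n⁻¹ * (n * k * n⁻¹) * n := by group
      _ = 1 := by rw [h6]; group
  have hnt : t * n = n * t := by
    calc t * n = n * k * t := by rw [hkdef]; group
      _ = n * t := by rw [hk1, mul_one]
  have hπ : h.rootPerm w = 1 := by
    refine hst w fun r => ?_
    obtain ⟨s, hs⟩ := (monBy_nW (F := F) hW h w).conj_X r
    have e1 := torC_conj_X hW.good c (h.rootPerm w r) ((s : F) * 1)
    rw [← hs, ← ht, show t * (n * X hW.good r 1 * n⁻¹) * t⁻¹ =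
      (t * n) * X hW.good r 1 * (t * n)⁻¹ by group, hnt,
      show n * t * X hW.good r 1 * (n * t)⁻¹ = n * (t * X hW.good r 1 * t⁻¹) * n⁻¹ by group,
      ht, torC_conj_X hW.good, hs] at e1
    have e2 := congrArg (fun g : GL D.Idx F => (g : Matrix D.Idx D.Idx F)) e1
    obtain ⟨i, hi⟩ := hW.toGoodUni.exists_coroot_ne F (h.rootPerm w r)
    have e3 := congrFun (congrFun e2 (Sum.inl i)) (Sum.inr (h.rootPerm w r).rev)
    simp only [coe_X, xR_entry_coroot hW.good, if_pos, mul_one] at e3
    have e4 := mul_right_cancel₀ hi e3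
    rw [mul_comm] at e4
    exact (Units.ext (mul_right_cancel₀ s.ne_zero e4)).symm
  have hw : w = 1 := by
    refine h.eq_one_of_invSet_empty (Finset.eq_empty_of_forall_notMem fun r hr => ?_)
    rw [Weyl.RootGood.mem_invSet, hπ, Equiv.Perm.one_apply] at hr
    exact hr.2 hr.1
  have hnd : n ∈ D.diagonalSubgroup F := by
    have h7 : (⟨n, hnN⟩ : ↥(D.monomialSubgroup F)) ∈ (weylHom hW h).ker := by
      rw [MonoidHom.mem_ker]
      exact (weylHom_nW hW h w hnN).trans hw
    rw [ker_weylHom] at h7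
    exact h7
  rw [← e, hu1, hv1, one_mul, mul_one]
  exact mul_mem hd hnd

/-- The Weyl group preserves the pairing. -/
theorem pairing_rootPerm {C : Weyl.Cert D.rank} {M : CoxeterMatrix (Fin D.rank)}
    {R : Weyl.RootTable} (hW : GoodWeyl D) (h : Weyl.RootGood C M R) (w : M.Group) :
    ∀ r s : Root D, D.pairing (h.rootPerm w r) (h.rootPerm w s) = D.pairing r s := by
  induction w using M.toCoxeterSystem.simple_induction_left with
  | one => intro r s; simp
  | mul_simple_left w i ih =>
    intro r s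
    rw [map_mul, CoxeterMatrix.toCoxeterSystem_simple, ← wPerm_eq_rootPerm hW h i,
      Equiv.Perm.mul_apply, Equiv.Perm.mul_apply, hW.pairing_wPerm, hW.wPerm_wPerm, ih]

end CfsgLib.DFourTorus
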