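import Cfsg.Agent.DFourTorus.Frame
import Cfsg.Agent.Chevalley.RankOne

/-!
# Diagonalising the generator over the sextic extension
-/

set_option autoImplicit false

namespace CfsgLib.DFourTorus

open Cfsg.Lie CfsgLib.Chevalley CfsgLib.ChevTorus
open scoped MatrixGroups

variable {L : Type*} [Field L]

theorem pairing_facts : chevD4.pairing (rt 14) (rt 23) = 1 ∧ chevD4.pairing (rt 14) (rt 0) = -1 ∧
    ∀ n ∈ [18, 13, 12], ∀ (h : n < 24), chevD4.pairing (rt n h) (rt 23) = 0 ∧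
      chevD4.pairing (rt n h) (rt 0) = 0 := by decide +kernel

/-- The diagonalising element. -/
def conjP (y l : L) : GL I L := X4 23 y * X4 0 (-l⁻¹)

theorem commute_hSplit (f : L →+* L) (c : Lˣ) (t : L) :
    Commute (hSplit f c) (X4 23 t) ∧ Commute (hSplit f c) (X4 0 t) := by
  have key : ∀ (n m : ℕ) (hn : n < 24) (hm : m < 24) (u : Lˣ),
      chevD4.pairing (rt n hn) (rt m hm) = 0 → Commute (H4 n u hn) (X4 m t hm) := by
    intro n m hn hm u e
    have := hT_conj_X goodW (rt n hn) (rt m hm) u t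
    rw [e, zpow_zero, Units.val_one, one_mul, mul_inv_eq_iff_eq_mul] at this
    exact this
  obtain ⟨-, -, h⟩ := pairing_facts
  refine ⟨?_, ?_⟩
  · exact ((key 18 23 _ _ _ (h 18 (by simp) (by decide)).1).mul_left
      (key 13 23 _ _ _ (h 13 (by simp) (by decide)).1)).mul_left
      (key 12 23 _ _ _ (h 12 (by simp) (by decide)).1)
  · exact ((key 18 0 _ _ _ (h 18 (by simp) (by decide)).2).mul_left
      (key 13 0 _ _ _ (h 13 (by simp) (by decide)).2)).mul_left
      (key 12 0 _ _ _ (h 12 (by simp) (by decide)).2)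

/-- The identity in `SL₂`. -/
theorem sl2_identity {l m : Lˣ} (hne : (l : L) ≠ m) :
    RankOneRel.uMat L (((l : L) + m) / ((l * m : Lˣ) : L)) * RankOneRel.uMat L (-1) *
        RankOneRel.vMat L 1 * RankOneRel.uMat L (-1) =
      RankOneRel.vMat L (m : L) * RankOneRel.uMat L (-((m : L) - l)⁻¹) *
        (RankOneRel.uMat L ((m⁻¹ : Lˣ) : L) * RankOneRel.vMat L (-(m : L)) *
          RankOneRel.uMat L ((m⁻¹ : Lˣ) : L) *
          (RankOneRel.uMat L (-1) * RankOneRel.vMat L 1 * RankOneRel.uMat L (-1))) *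
        (RankOneRel.uMat L (((l * m : Lˣ) : L) / ((m : L) - l)) *
          RankOneRel.vMat L (-(l : L)⁻¹)) := by
  have hd : (m : L) - l ≠ 0 := sub_ne_zero.2 (Ne.symm hne)
  have hl := l.ne_zero
  have hm := m.ne_zero
  apply Subtype.ext
  simp only [Matrix.SpecialLinearGroup.coe_mul, RankOneRel.uMat_val, RankOneRel.vMat_val,
    Units.val_mul, Units.val_inv_eq_inv_val]
  ext i j
  fin_cases i <;> fin_cases j <;> simp [Matrix.mul_apply, Fin.sum_univ_two] <;> field_simp <;> ring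

/-- The generator is conjugate to a torus element. -/
theorem conj_gen (f : L →+* L) {l m a c : Lˣ} (ha : a = l * m) (hne : (l : L) ≠ m) :
    conjP ((a : L) / ((m : L) - l)) (l : L) * gen f a ((l : L) + m) c *
        (conjP ((a : L) / ((m : L) - l)) (l : L))⁻¹ =
      H4 14 a * H4 23 m⁻¹ * hSplit f c := by
  subst ha
  set a : Lˣ := l * m with ha
  obtain ⟨φ, hu, hv⟩ := exists_sl2Hom (F := L) goodW (rt 23)
  rw [rev_facts.1] at hv
  set y : L := (a : L) / ((m : L) - l) with hy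
  set P := conjP y (l : L) with hP
  have e := congrArg φ (sl2_identity hne)
  simp only [map_mul, hu, hv] at e
  have hD : X4 23 ((m⁻¹ : Lˣ) : L) * X4 0 (-(m : L)) * X4 23 ((m⁻¹ : Lˣ) : L) *
      (X4 23 (-1) * X4 0 1 * X4 23 (-1)) = H4 23 m⁻¹ := by
    rw [H4, ← hElt_eq goodW, nElt, nElt, rev_facts.1, inv_inv, inv_neg_one, Units.val_neg,
      Units.val_one, neg_neg]
  rw [hD] at e
  have hc23 : ∀ t : L, H4 14 a * X4 23 t * (H4 14 a)⁻¹ = X4 23 ((a : L) * t) := fun t => by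
    rw [hT_conj_X goodW, pairing_facts.1, zpow_one]
  have hc0 : ∀ t : L, H4 14 a * X4 0 t * (H4 14 a)⁻¹ = X4 0 ((a : L)⁻¹ * t) := fun t => by
    rw [hT_conj_X goodW, pairing_facts.2.1, zpow_neg_one, Units.val_inv_eq_inv_val]
  have hcv : H4 14 a * (X4 0 (m : L) * X4 23 (-((m : L) - l)⁻¹)) * (H4 14 a)⁻¹ = P⁻¹ := by
    have e0 : (a : L)⁻¹ * (m : L) = (l : L)⁻¹ := by
      rw [ha, Units.val_mul]; field_simp
    have e1 : (a : L) * -((m : L) - l)⁻¹ = -y := by rw [hy, mul_neg, div_eq_mul_inv]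
    rw [show H4 14 a * (X4 0 (m : L) * X4 23 (-((m : L) - l)⁻¹)) * (H4 14 a)⁻¹ =
      (H4 14 a * X4 0 (m : L) * (H4 14 a)⁻¹) *
        (H4 14 a * X4 23 (-((m : L) - l)⁻¹) * (H4 14 a)⁻¹) by group, hc0, hc23, e0, e1, hP, conjP,
      mul_inv_rev, X_inv, X_inv, neg_neg]
  obtain ⟨s23, s0⟩ : (∀ t, Commute (hSplit f c) (X4 23 t)) ∧ ∀ t, Commute (hSplit f c) (X4 0 t) :=
    ⟨fun t => (commute_hSplit f c t).1, fun t => (commute_hSplit f c t).2⟩
  have hcs : Commute P (hSplit f c) := by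
    rw [hP, conjP]; exact ((s23 _).mul_right (s0 _)).symm
  have eM : H4 14 a * (X4 23 (((l : L) + m) / (a : L)) * X4 23 (-1) * X4 0 1 * X4 23 (-1)) =
      P⁻¹ * (H4 14 a * H4 23 m⁻¹) * P := by
    rw [e, ← hcv, show ∀ g x z w : GL I L, g * x * g⁻¹ * (g * z) * w = g * (x * z * w) from
      fun g x z w => by group, hP, conjP, hy]
  rw [gen, eM, show P * (P⁻¹ * (H4 14 a * H4 23 m⁻¹) * P * hSplit f c) * P⁻¹ =
    H4 14 a * H4 23 m⁻¹ * (P * hSplit f c * P⁻¹) by group, hcs.eq, mul_inv_cancel_right]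

/-- The coefficients of a root on the fundamental roots. -/
def rc : Fin 24 → Fin 4 → ℤ :=
  ![![-1, -2, -1, -1], ![-1, -1, -1, -1], ![-1, -1, -1, 0], ![-1, -1, 0, -1], ![-1, -1, 0, 0],
    ![-1, 0, 0, 0], ![0, -1, -1, -1], ![0, -1, -1, 0], ![0, -1, 0, -1], ![0, -1, 0, 0],
    ![0, 0, -1, 0], ![0, 0, 0, -1], ![0, 0, 0, 1], ![0, 0, 1, 0], ![0, 1, 0, 0], ![0, 1, 0, 1],
    ![0, 1, 1, 0], ![0, 1, 1, 1], ![1, 0, 0, 0], ![1, 1, 0, 0], ![1, 1, 0, 1], ![1, 1, 1, 0],
    ![1, 1, 1, 1], ![1, 2, 1, 1]]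

/-- The coefficient of a root on a fundamental root. -/
def coef (r : Root chevD4) (i : Fin 4) : ℤ := rc r i

theorem pairing_table : ∀ r : Root chevD4,
    chevD4.pairing (rt 18) r = 2 * coef r 0 - coef r 1 ∧
    chevD4.pairing (rt 14) r = 2 * coef r 1 - coef r 0 - coef r 2 - coef r 3 ∧
    chevD4.pairing (rt 13) r = 2 * coef r 2 - coef r 1 ∧
    chevD4.pairing (rt 12) r = 2 * coef r 3 - coef r 1 ∧
    chevD4.pairing (rt 23) r = coef r 1 := by decide +kernel

/-- The diagonal form as a torus element. -/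
def gvec (f : L →+* L) (a m c : Lˣ) : Fin chevD4.rank → Lˣ := fun k =>
  a ^ (chevD4.coroot.getD (rt 14 : Root chevD4) #[]).getD k 0 *
    (m⁻¹) ^ (chevD4.coroot.getD (rt 23 : Root chevD4) #[]).getD k 0 *
    (c ^ (chevD4.coroot.getD (rt 18 : Root chevD4) #[]).getD k 0 *
      fU f c ^ (chevD4.coroot.getD (rt 13 : Root chevD4) #[]).getD k 0 *
      fU f (fU f c) ^ (chevD4.coroot.getD (rt 12 : Root chevD4) #[]).getD k 0)

theorem torC_gvec (f : L →+* L) (a m c : Lˣ) :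
    torC chevD4 (gvec f a m c) = H4 14 a * H4 23 m⁻¹ * hSplit f c := by
  simp only [hSplit, H4, hT_eq_torC, torC_mul]
  rfl

theorem torVal_gvec (f : L →+* L) (a m c : Lˣ) (r : Root chevD4) :
    torVal (gvec f a m c) (Sum.inr r) =
      a ^ (2 * coef r 1 - coef r 0 - coef r 2 - coef r 3) * (m⁻¹) ^ coef r 1 *
        (c ^ (2 * coef r 0 - coef r 1) * fU f c ^ (2 * coef r 2 - coef r 1) *
          fU f (fU f c) ^ (2 * coef r 3 - coef r 1)) := by
  obtain ⟨h18, h14, h13, h12, h23⟩ := pairing_table r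
  have e : tor (fun s : Root chevD4 => torVal (gvec f a m c) (Sum.inr s)) =
      (tor fun s : Root chevD4 => a ^ chevD4.pairing (rt 14) s * (m⁻¹) ^ chevD4.pairing (rt 23) s *
        (c ^ chevD4.pairing (rt 18) s * fU f c ^ chevD4.pairing (rt 13) s *
          fU f (fU f c) ^ chevD4.pairing (rt 12) s) : GL I L) := by
    refine Eq.trans (show _ = torC chevD4 (gvec f a m c) from rfl) ?_
    rw [torC_gvec]
    simp only [hSplit, H4, hT, tor_mul]
  rw [congrFun (tor_injective e) r, h18, h14, h13, h12, h23]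

end CfsgLib.DFourTorus
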